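import Groth.Agent.Sga4h.H911.FixFin

/-!
Products over the closed points of degree `≤ N` of a scheme of finite type over a finite field.
-/

set_option autoImplicit false

universe u

open CategoryTheory CategoryTheory.Limits AlgebraicGeometry

namespace Groth.Agent.Sga4h.H911.ClosedProd

open PtCount

variable (k K : Type u) [Field k] [Fintype k] [Field K] [Algebra k K] [Algebra.IsAlgebraic k K] [IsAlgClosed K]

variable {Y : Scheme.{u}} (a : Y ⟶ Spec (CommRingCat.of k)) [LocallyOfFiniteType a]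

theorem ptDeg_pos (x : FinFr.ClosedPt Y) : 0 < FinFr.ptDeg a x.1 := by
  have : JacobsonSpace Y := LocallyOfFiniteType.jacobsonSpace a
  have h1 := (isClosed_singleton_iff_locallyOfFiniteType (x := x.1)).1 x.2
  have h2 : LocallyOfFiniteType (Y.fromSpecResidueField x.1 ≫ a) := inferInstance
  rw [← specMap_resHom, HasRingHomProperty.Spec_iff (P := @LocallyOfFiniteType)] at h2
  let _ := resAlg k a x.1
  change (algebraMap k (Y.residueField x.1)).FiniteType at h2
  rw [RingHom.finiteType_algebraMap] at h2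
  have : Module.Finite k (Y.residueField x.1 : Type u) := finite_of_finite_type_of_isJacobsonRing k _
  exact Module.finrank_pos (R := k) (M := (Y.residueField x.1 : Type u))

/-- closed points of degree at most `N`. -/
abbrev ClosedLE (N : ℕ) : Type u := { x : FinFr.ClosedPt Y // FinFr.ptDeg a x.1 ≤ N }

/-- grouping by degree. -/
noncomputable def groupLE (N : ℕ) : ClosedLE k a N ≃ Σ d : Finset.Icc 1 N, ClosedDeg k a d.1 where
  toFun x := ⟨⟨FinFr.ptDeg a x.1.1, Finset.mem_Icc.2 ⟨ptDeg_pos k a x.1, x.2⟩⟩, ⟨x.1, rfl⟩⟩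
  invFun s := ⟨s.2.1, by rw [s.2.2]; exact (Finset.mem_Icc.1 s.1.2).2⟩
  left_inv x := rfl
  right_inv s := by
    obtain ⟨⟨d, hd⟩, ⟨x, hx⟩⟩ := s
    change FinFr.ptDeg a x.1 = d at hx
    subst hx
    rfl

include K in
theorem finite_closedLE [QuasiCompact a] (N : ℕ) : Finite (ClosedLE k a N) := by
  have h : ∀ n, 0 < n → Finite (FixPts k K a n) := fun n hn => FixFin.finite_fixPts k K a hn
  have : ∀ d : Finset.Icc 1 N, Finite (ClosedDeg k a d.1) := fun d =>
    finite_closedDeg k K a h (Finset.mem_Icc.1 d.2).1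
  exact Finite.of_equiv _ (groupLE k a N).symm

include K in
theorem finprod_closedLE [QuasiCompact a] {M : Type*} [CommMonoid M] (N : ℕ) (f : ℕ → M) :
    ∏ᶠ x : ClosedLE k a N, f (FinFr.ptDeg a x.1.1) = ∏ d ∈ Finset.Icc 1 N, f d ^ nClosed k a d := by
  classical
  have h : ∀ n, 0 < n → Finite (FixPts k K a n) := fun n hn => FixFin.finite_fixPts k K a hn
  have h1 : ∀ d : Finset.Icc 1 N, Finite (ClosedDeg k a d.1) := fun d =>
    finite_closedDeg k K a h (Finset.mem_Icc.1 d.2).1
  have := finite_closedLE k K a N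
  let _ := Fintype.ofFinite (ClosedLE k a N)
  let _ : ∀ d : Finset.Icc 1 N, Fintype (ClosedDeg k a d.1) := fun d => Fintype.ofFinite _
  rw [finprod_eq_prod_of_fintype, ← Equiv.prod_comp (groupLE k a N).symm, Fintype.prod_sigma,
    ← Finset.prod_coe_sort (Finset.Icc 1 N)]
  refine Finset.prod_congr rfl fun d _ => ?_
  have h2 : ∀ x : ClosedDeg k a d.1, f (FinFr.ptDeg a ((groupLE k a N).symm ⟨d, x⟩).1.1) = f d.1 := fun x => by
    congr 1
    exact x.2
  rw [Finset.prod_congr rfl fun x _ => h2 x, Finset.prod_const, Finset.card_univ, nClosed, Nat.card_eq_fintype_card]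

end Groth.Agent.Sga4h.H911.ClosedProd
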