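import Groth.Agent.Sga4h.H911.PtCount

/-!
Finiteness of the set of geometric points fixed by a power of Frobenius.
-/

set_option autoImplicit false

universe u

open CategoryTheory CategoryTheory.Limits AlgebraicGeometry

namespace Groth.Agent.Sga4h.H911.FixFin

open PtCount

variable (k K : Type u) [Field k] [Fintype k] [Field K] [Algebra k K] [Algebra.IsAlgebraic k K]

theorem finite_fixed (K : Type u) [Field K] (N : ℕ) (hN : 1 < N) : Finite { c : K // c ^ N = c } := by
  classical
  let f : Polynomial K := Polynomial.X ^ N - Polynomial.X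
  have hf : f ≠ 0 := FiniteField.X_pow_card_sub_X_ne_zero K hN
  have h : ∀ x : { c : K // c ^ N = c }, x.1 ∈ f.roots.toFinset := by
    intro x
    rw [Multiset.mem_toFinset, Polynomial.mem_roots hf, Polynomial.IsRoot, Polynomial.eval_sub, Polynomial.eval_pow,
      Polynomial.eval_X, sub_eq_zero]
    exact x.2
  refine Finite.of_injective (fun x => (⟨x.1, h x⟩ : f.roots.toFinset)) fun x y hxy => ?_
  have h1 := congrArg (fun t : f.roots.toFinset => t.1) hxy
  exact Subtype.ext h1

/-- the affine case. -/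
theorem finite_affine {A : CommRingCat.{u}} (a : Spec A ⟶ Spec (CommRingCat.of k)) [LocallyOfFiniteType a]
    {n : ℕ} (hn : 0 < n) : Finite (FixPts k K a n) := by
  classical
  obtain ⟨φ, rfl⟩ := Spec.map_surjective a
  have hft : φ.hom.FiniteType := by
    rw [← HasRingHomProperty.Spec_iff (P := @LocallyOfFiniteType)]
    infer_instance
  letI : Algebra k A := φ.hom.toAlgebra
  have hft' : Algebra.FiniteType k A := hft
  obtain ⟨s, hs⟩ := hft'.out
  have hfin := finite_fixed K (Fintype.card k ^ n) (Nat.one_lt_pow hn.ne' Fintype.one_lt_card)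
  -- the ring map of a point
  let r : FixPts k K (Spec.map φ) n → (A ⟶ CommRingCat.of K) := fun y => Spec.preimage y.1
  have hr : ∀ y, Spec.map (r y) = y.1 := fun y => Spec.map_preimage _
  have hr1 : ∀ y, φ ≫ r y = CommRingCat.ofHom (algebraMap k K) := by
    intro y
    apply Spec.map_injective
    rw [Spec.map_comp, hr]
    exact y.2.1
  have hr2 : ∀ y (x : A), (r y).hom x ^ (Fintype.card k ^ n) = (r y).hom x := by
    intro y x
    have h : r y ≫ CommRingCat.ofHom (((FinFr.arith k K) ^ n : K ≃ₐ[k] K) : K →+* K) = r y := by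
      apply Spec.map_injective
      rw [Spec.map_comp, hr]
      exact y.2.2
    have h2 := congrArg (fun f => f.hom x) h
    rw [← arith_pow_apply k K n]
    exact h2
  refine Finite.of_injective (fun y : FixPts k K (Spec.map φ) n => fun x : s =>
    (⟨(r y).hom x.1, hr2 y x.1⟩ : { c : K // c ^ (Fintype.card k ^ n) = c })) ?_
  intro y y' h
  apply Subtype.ext
  rw [← hr y, ← hr y']
  congr 1
  ext x
  let R1 : A →ₐ[k] K := { (r y).hom with commutes' := fun c => congrArg (fun f => f.hom c) (hr1 y) }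
  let R2 : A →ₐ[k] K := { (r y').hom with commutes' := fun c => congrArg (fun f => f.hom c) (hr1 y') }
  have h12 : R1 = R2 := by
    apply AlgHom.ext_of_adjoin_eq_top hs
    intro x hx
    have := congrFun h ⟨x, hx⟩
    exact congrArg Subtype.val this
  exact congrArg (fun f : A →ₐ[k] K => f x) h12

theorem finite_fixPts {Y : Scheme.{u}} (a : Y ⟶ Spec (CommRingCat.of k)) [LocallyOfFiniteType a] [QuasiCompact a]
    {n : ℕ} (hn : 0 < n) : Finite (FixPts k K a n) := by
  have : CompactSpace Y := by
    have := QuasiCompact.compactSpace_of_compactSpace a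
    exact this
  let 𝒰 := Y.affineCover.finiteSubcover
  have hlf : ∀ i, LocallyOfFiniteType (𝒰.f i ≫ a) := fun i => by
    have : IsOpenImmersion (𝒰.f i) := inferInstance
    have : LocallyOfFiniteType (𝒰.f i) := inferInstance
    exact MorphismProperty.comp_mem _ _ _ this ‹_›
  have hf : ∀ i, Finite (FixPts k K (𝒰.f i ≫ a) n) := fun i =>
    @finite_affine k K _ _ _ _ _ _ (𝒰.f i ≫ a) (hlf i) n hn
  have : Finite 𝒰.I₀ := inferInstance
  refine Finite.of_surjective (fun s : Σ i, FixPts k K (𝒰.f i ≫ a) n =>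
    (⟨s.2.1 ≫ 𝒰.f s.1, by rw [Category.assoc]; exact s.2.2.1, by rw [← Category.assoc, s.2.2.2]⟩ : FixPts k K a n)) ?_
  intro y
  obtain ⟨i, z, hz⟩ := 𝒰.exists_eq (y.1 (IsLocalRing.closedPoint K))
  have hrange : Set.range y.1 ⊆ Set.range (𝒰.f i) := by
    rintro _ ⟨t, rfl⟩
    have : t = IsLocalRing.closedPoint K := Subsingleton.elim _ _
    rw [this, ← hz]
    exact ⟨z, rfl⟩
  let w : Spec (CommRingCat.of K) ⟶ 𝒰.X i := IsOpenImmersion.lift (𝒰.f i) y.1 hrange
  have hw : w ≫ 𝒰.f i = y.1 := IsOpenImmersion.lift_fac _ _ _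
  refine ⟨⟨i, w, ?_, ?_⟩, Subtype.ext hw⟩
  · rw [← Category.assoc, hw, y.2.1]
  · rw [← cancel_mono (𝒰.f i), Category.assoc, hw, y.2.2]

end Groth.Agent.Sga4h.H911.FixFin
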