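import Groth.Agent.Sga4h.H927.FinStalk
import Groth.Agent.Etrest.SHPoint

/-!
The fibres of constant sheaves are finite.
-/

set_option autoImplicit false

universe u

open CategoryTheory CategoryTheory.Limits AlgebraicGeometry Opposite

namespace Groth.Agent.Sga4h.H911.ConstFib

theorem finite_H0 {X Y : Scheme.{u}} [ConnectedSpace X] (π : X ⟶ Y) (Λ : Type) [CommRing Λ] [Finite Λ] :
    Finite (EtCoh.H X ((EtCoh.pull π).obj (EtCoh.const Y Λ)) 0) := by
  obtain ⟨e⟩ := Groth.Agent.Etrest.SHPoint.nonempty_H0_const X Λ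
  have e1 := ((EtCoh.HF X 0).mapIso (EtCore.pullConst π Λ)).addCommGroupIsoToAddEquiv.toEquiv
  have h : Nat.card (EtCoh.H X ((EtCoh.pull π).obj (EtCoh.const Y Λ)) 0) = Nat.card Λ :=
    (Nat.card_congr e1).trans (Nat.card_congr e.toEquiv)
  exact Nat.finite_of_card_ne_zero (by rw [h]; exact Nat.card_pos.ne')

/-- The constant sheaf of a finite ring has finite fibres. -/
theorem finFib_const (Λ : Type) [CommRing Λ] [Finite Λ] (Y : Scheme.{u}) :
    Groth.Agent.Sga4h.H927.FinStalk.FinFib (FinFr.constLam Λ Y) := by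
  intro Ω _ _ ξ
  have hc : ConnectedSpace ↥(Spec (CommRingCat.of Ω)) := inferInstance
  have h := finite_H0 ξ Λ
  have h' : Finite (H927.HMod.HM (EtLam.pullback ξ (FinFr.constLam Λ Y)) 0) := h
  exact Module.Finite.of_finite

end Groth.Agent.Sga4h.H911.ConstFib
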