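import Groth.Agent.Sga4h.H911.ZetaFinal
import Groth.Agent.Sga4h.H911.ConstFib
import Groth.Agent.Sga4h.H927.CycInv

/-!
The vanishing of the defect of the determinants for the constant sheaf on a smooth proper curve over a finite field
(possibly disconnected), from the Lefschetz formula with coefficients `ℤ/ℓ^(N+1)`.
-/

set_option autoImplicit false

universe u

open CategoryTheory CategoryTheory.Limits AlgebraicGeometry Opposite

namespace Groth.Agent.Sga4h.H911.ZetaMain

open Groth.Agent.Sga4h.H925.Defs

variable (k K : Type u) [Field k] [Fintype k] [Field K] [Algebra k K] [Algebra.IsAlgebraic k K] [IsAlgClosed K]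
variable [Fact FinFr.PullExact.{u}] {Y : Scheme.{u}} (a : Y ⟶ Spec (CommRingCat.of k))

/-- The local determinant of the constant sheaf at a closed point. -/
theorem hloc_const [LocallyOfFiniteType a] (Λ : Type) [Field Λ] [Finite Λ] (x : Y) (hx : IsClosed ({x} : Set Y)) :
    FinFr.charRev (frobK K (Y.fromSpecResidueField x ≫ a) (EtLam.pullback (Y.fromSpecResidueField x) (FinFr.constLam Λ Y)) 0) =
      FinFr.locFactor a x (FinFr.constLam Λ Y) := by
  have := ZetaLam.finite_residueField k a x hx
  exact H927.CycInv.charRev_frobK K a x _ (ConstFib.finFib_const Λ Y)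

/-- **The constant case of the L-function formula on smooth proper curves.** -/
theorem defect_const [IsProper a] [SmoothOfRelativeDimension 1 a] (ℓ : ℕ) [Fact ℓ.Prime] (hk : (ℓ : k) ≠ 0)
    (H : ∀ N, H915.CurveCase.LefFor K (ZMod (ℓ ^ (N + 1)))) (Λ : Type) [Field Λ] [Finite Λ] [CharP Λ ℓ] (n N : ℕ) (hn : n ≤ N) :
    defect K (detInvN Λ n) a N (FinFr.constLam Λ Y) = 0 :=
  ZetaFinal.defect_const k K a ℓ hk H Λ n N hn (hloc_const k K a Λ)

end Groth.Agent.Sga4h.H911.ZetaMain
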