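import Groth.Agent.Sga4h.H911.ConstExt
import Groth.Agent.S0101

/-!
The cohomology groups `H^i(X, ℤ/ℓ^(N+1))` are flat lifts of `H^i(X, ℤ/ℓ)` as soon as their orders are `(ℓ^(N+1))^(b i)`.
-/

set_option autoImplicit false

universe u

open CategoryTheory CategoryTheory.Limits AlgebraicGeometry Opposite Polynomial

namespace Groth.Agent.Sga4h.H911.CohLift

open Groth.Agent.Sga4h.H911.CardLift

section Lift

/-- The coefficients `M ↦ π⁻¹ M` on `X`. -/
noncomputable abbrev PhiF {X Y : Scheme.{u}} (π : X ⟶ Y) : AddCommGrpCat.{u + 1} ⥤ EtCoh.Ab X :=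
  constantSheaf Y.smallEtaleTopology AddCommGrpCat.{u + 1} ⋙ EtCoh.pull π

theorem lims_const (Y : Scheme.{u}) : PreservesFiniteLimits (constantSheaf Y.smallEtaleTopology AddCommGrpCat.{u + 1}) := by
  delta constantSheaf
  infer_instance

theorem colims_const (Y : Scheme.{u}) :
    PreservesFiniteColimits (constantSheaf Y.smallEtaleTopology AddCommGrpCat.{u + 1}) := by
  have : PreservesColimitsOfSize.{0, 0} (constantSheaf Y.smallEtaleTopology AddCommGrpCat.{u + 1}) :=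
    (EtCore.constAdj Y).leftAdjoint_preservesColimits
  exact PreservesColimitsOfSize.preservesFiniteColimits _

/-- orders of the cohomology of `π⁻¹ M`. -/
theorem card_PhiF {X Y : Scheme.{u}} (π : X ⟶ Y) (M : Type) [AddCommGroup M] (i : ℕ) :
    Nat.card (EtCoh.H X ((PhiF π).obj (AddCommGrpCat.of (ULift.{u + 1} M))) i) = Nat.card (EtCoh.H X (EtCoh.const X M) i) :=
  Nat.card_congr (((EtCoh.HF X i).mapIso (EtCore.pullConst π M)).addCommGroupIsoToAddEquiv.toEquiv)

/-- functoriality of cohomology in the sheaf, with fixed instances. -/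
noncomputable def rho {X : Scheme.{u}} {F G : EtCoh.Ab X} (φ : F ⟶ G) (i : ℕ) : EtCoh.H X F i →+ EtCoh.H X G i where
  toFun x := Sheaf.H.map φ i x
  map_zero' := map_zero (Sheaf.H.map φ i)
  map_add' := map_add (Sheaf.H.map φ i)

variable {X Y : Scheme.{u}} (π : X ⟶ Y) (ℓ : ℕ) [hℓ : Fact ℓ.Prime]

/-- reduction of the coefficients. -/
noncomputable def redSh (Y : Scheme.{u}) (N : ℕ) :
    (FinFr.constLam (ZMod (ℓ ^ (N + 1))) Y).carrier ⟶ (FinFr.constLam (ZMod ℓ) Y).carrier :=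
  (constantSheaf Y.smallEtaleTopology AddCommGrpCat.{u + 1}).map (up.{u} (redZ (a := ℓ ^ N) (b := ℓ) (n := ℓ ^ (N + 1)) rfl))

theorem isLift (i b : ℕ)
    (hcard : ∀ m, Nat.card (EtCoh.H X (EtCoh.const X (ZMod (ℓ ^ m))) i) = (ℓ ^ m) ^ b) (N : ℕ) :
    ZetaMod.IsLift (ℓ := ℓ) (V := EtCoh.H X (EtLam.pullback π (FinFr.constLam (ZMod (ℓ ^ (N + 1))) Y)).carrier i)
      (W := EtCoh.H X (EtLam.pullback π (FinFr.constLam (ZMod ℓ) Y)).carrier i) N
      (rho ((EtCoh.pull π).map (redSh ℓ Y N)) i) := by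
  have i1 := lims_const Y
  have i2 := colims_const Y
  have i3 : PreservesFiniteLimits (EtCoh.pull π) := Groth.Agent.S0101.result _
  have i4 : (constantSheaf Y.smallEtaleTopology AddCommGrpCat.{u + 1}).Additive := FinFr.additive_constantSheaf Y
  have i5 : PreservesFiniteLimits (PhiF π) := comp_preservesFiniteLimits _ _
  have i6 : PreservesFiniteColimits (PhiF π) := comp_preservesFiniteColimits _ _
  have hc : ∀ m, Nat.card (EtCoh.H X ((PhiF π).obj (AddCommGrpCat.of (ULift.{u + 1} (ZMod (ℓ ^ m))))) i) = (ℓ ^ m) ^ b :=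
    fun m => (card_PhiF π _ i).trans (hcard m)
  have hc1 : Nat.card (EtCoh.H X ((PhiF π).obj (AddCommGrpCat.of (ULift.{u + 1} (ZMod ℓ)))) i) = ℓ ^ b := by
    rw [card_PhiF]
    have := hcard 1
    rw [pow_one] at this
    exact this
  obtain ⟨h1, h2, h3, h4⟩ := lift_of_card (PhiF π) ℓ i b hc hc1 N
  refine ⟨h1, h2, fun v hv => ?_, h4⟩
  obtain ⟨w, hw⟩ := h3 v hv
  refine ⟨w, ?_⟩
  rw [Nat.cast_smul_eq_nsmul]
  exact hw

end Lift

section Gal

variable {k : Type u} [Field k] {K : Type u} [Field K] [Algebra k K]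
variable {X₀ : Scheme.{u}} (a : X₀ ⟶ Spec (CommRingCat.of k)) [Fact FinFr.PullExact.{u}]
variable {Λ Λ₂ : Type} [CommRing Λ] [CommRing Λ₂]

/-- Galois action and maps of sheaves. -/
theorem galLin_map (σ : K ≃ₐ[k] K) (L : EtLam.Sheaf Λ X₀) (L₂ : EtLam.Sheaf Λ₂ X₀) (s : L.carrier ⟶ L₂.carrier) (n : ℕ)
    (x : EtCoh.H (FinFr.ext K a) (EtLam.pullback (FinFr.extπ K a) L).carrier n) :
    rho ((EtCoh.pull (FinFr.extπ K a)).map s) n (FinFr.galLin a σ L n x) =
      FinFr.galLin a σ L₂ n (rho ((EtCoh.pull (FinFr.extπ K a)).map s) n x) := by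
  have := FinFr.pullExact_out (FinFr.galAct a σ)
  exact (EtCore.HpullVia_natural _ _ _ _ s n x).symm

end Gal

end Groth.Agent.Sga4h.H911.CohLift
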