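import Groth.Agent.Sga4h.H911.ConstZero
import Groth.Agent.Sga4h.H911.CohLift
import Groth.Agent.Etrest.SHPoint

/-!
The local factor of the constant sheaf: `det(1 - F_x T^{deg x} | Λ) = 1 - T^{deg x}`.
-/

set_option autoImplicit false

universe u

open CategoryTheory CategoryTheory.Limits AlgebraicGeometry Opposite Polynomial

namespace Groth.Agent.Sga4h.H911.LocConst

open Groth.Agent.Sga4h.H911.CohLift

/-- `det(1 - T)` on a vector space of dimension one. -/
theorem charRev_id {Λ : Type} [Field Λ] {V : Type*} [AddCommGroup V] [Module Λ V] (h : Module.finrank Λ V = 1)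
    (φ : V →ₗ[Λ] V) (hφ : ∀ v, φ v = v) : FinFr.charRev φ = 1 - X := by
  have hid : φ = LinearMap.id := LinearMap.ext hφ
  subst hid
  have : FiniteDimensional Λ V := Module.finite_of_finrank_pos (by rw [h]; exact one_pos)
  let b : Module.Basis (Fin 1) Λ V := Module.finBasisOfFinrankEq Λ V h
  rw [Groth.Agent.Sga4h.H925.DetInv.charRev_eq b, LinearMap.toMatrix_id, Matrix.charpolyRev]
  simp

theorem finrank_of_card {Λ : Type} [Field Λ] [Finite Λ] {V : Type*} [AddCommGroup V] [Module Λ V]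
    (h : Nat.card V = Nat.card Λ) : Module.finrank Λ V = 1 := by
  have hΛ : 1 < Nat.card Λ := Finite.one_lt_card
  have : Finite V := Nat.finite_of_card_ne_zero (by rw [h]; omega)
  have : FiniteDimensional Λ V := Module.Finite.of_finite
  have h1 := Module.natCard_eq_pow_finrank (K := Λ) (V := V)
  rw [h] at h1
  refine Nat.pow_right_injective hΛ ?_
  beta_reduce
  rw [pow_one, ← h1]

section Gal

variable {k K : Type u} [Field k] [Field K] [Algebra k K] {X₀ : Scheme.{u}} (a : X₀ ⟶ Spec (CommRingCat.of k))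
variable [Fact FinFr.PullExact.{u}] (Λ : Type) [CommRing Λ]

/-- Galois acts trivially on `H^0(X_K, Λ)` for `X_K` connected. -/
theorem galLin_const [ConnectedSpace ↥(FinFr.ext K a)] (σ : K ≃ₐ[k] K)
    (x : EtCoh.H (FinFr.ext K a) (EtLam.pullback (FinFr.extπ K a) (FinFr.constLam Λ X₀)).carrier 0) :
    FinFr.galLin a σ (FinFr.constLam Λ X₀) 0 x = x :=
  ConstZero.hpVia_zero a σ Λ x

omit [Fact FinFr.PullExact.{u}] in
theorem rho_injective {X : Scheme.{u}} {F G : EtCoh.Ab X} (φ : F ⟶ G) (_ : IsIso φ) (i : ℕ) : Function.Injective (rho φ i) :=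
  (Groth.Agent.Etcore.EtInst.HHmap_bijective φ i).1

/-- the same for the inverse image of a constant sheaf. -/
theorem galLin_pull_const {Y : Scheme.{u}} (x : X₀ ⟶ Y) [ConnectedSpace ↥(FinFr.ext K a)] (σ : K ≃ₐ[k] K)
    (v : EtCoh.H (FinFr.ext K a) (EtLam.pullback (FinFr.extπ K a) (EtLam.pullback x (FinFr.constLam Λ Y))).carrier 0) :
    FinFr.galLin a σ (EtLam.pullback x (FinFr.constLam Λ Y)) 0 v = v := by
  have h := galLin_map a σ (EtLam.pullback x (FinFr.constLam Λ Y)) (FinFr.constLam Λ X₀) (EtCore.pullConst x Λ).hom 0 v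
  rw [galLin_const] at h
  have : IsIso ((EtCoh.pull (FinFr.extπ K a)).map (EtCore.pullConst x Λ).hom) :=
    ((EtCoh.pull (FinFr.extπ K a)).mapIso (EtCore.pullConst x Λ)).isIso_hom
  exact rho_injective _ this 0 h

end Gal

/-- `X_K` for a point. -/
theorem connectedSpace_ext (k K : Type u) [Field k] [Field K] [Algebra k K] :
    ConnectedSpace ↥(FinFr.ext K (𝟙 (Spec (CommRingCat.of k)))) := by
  have h1 : IsIso (pullback.snd (𝟙 (Spec (CommRingCat.of k))) (FinFr.specι k K)) := inferInstance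
  have h2 : ConnectedSpace ↥(Spec (CommRingCat.of K)) := inferInstance
  exact (Scheme.homeoOfIso (asIso (pullback.snd (𝟙 (Spec (CommRingCat.of k))) (FinFr.specι k K)))).symm.surjective.connectedSpace
    (Scheme.homeoOfIso (asIso (pullback.snd (𝟙 (Spec (CommRingCat.of k))) (FinFr.specι k K)))).symm.continuous

theorem card_H0 {X Y Z : Scheme.{u}} [ConnectedSpace X] (π : X ⟶ Y) (x : Y ⟶ Z) (Λ : Type) [CommRing Λ] :
    Nat.card (EtCoh.H X (EtLam.pullback π (EtLam.pullback x (FinFr.constLam Λ Z))).carrier 0) = Nat.card Λ := by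
  obtain ⟨e⟩ := Groth.Agent.Etrest.SHPoint.nonempty_H0_const X Λ
  have e1 := ((EtCoh.HF X 0).mapIso ((EtCoh.pull π).mapIso (EtCore.pullConst x Λ) ≪≫
    EtCore.pullConst π Λ)).addCommGroupIsoToAddEquiv.toEquiv
  exact (Nat.card_congr e1).trans (Nat.card_congr e.toEquiv)

/-- `det(1 - T F | H^0)` for the constant sheaf at a point. -/
theorem charRev_locFrob {κ K : Type u} [Field κ] [Field K] [Algebra κ K] [Fintype κ] [Algebra.IsAlgebraic κ K]
    [Fact FinFr.PullExact.{u}] (Λ : Type) [Field Λ] [Finite Λ] {Y : Scheme.{u}} (x : Spec (CommRingCat.of κ) ⟶ Y) :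
    FinFr.charRev (FinFr.locFrob (K := K) x (FinFr.constLam Λ Y)) = 1 - X := by
  have hc := connectedSpace_ext κ K
  refine charRev_id (finrank_of_card (card_H0 _ _ Λ)) _ fun v => ?_
  exact galLin_pull_const (𝟙 _) Λ x _ v

/-- **The local factor of the constant sheaf.** -/
theorem locFactor_const {k : Type u} [Field k] [Fact FinFr.PullExact.{u}] (Λ : Type) [Field Λ] [Finite Λ]
    {Y : Scheme.{u}} (a : Y ⟶ Spec (CommRingCat.of k)) (x : Y) [hx : Finite (Y.residueField x : Type u)] :
    FinFr.locFactor a x (FinFr.constLam Λ Y) = 1 - X ^ FinFr.ptDeg a x := by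
  unfold FinFr.locFactor
  rw [dif_pos hx]
  have h := @charRev_locFrob (Y.residueField x : Type u) (AlgebraicClosure (Y.residueField x : Type u)) _ _ _
    (Fintype.ofFinite _) _ _ Λ _ _ Y (Y.fromSpecResidueField x)
  refine (congrArg (Polynomial.expand Λ (FinFr.ptDeg a x)) h).trans ?_
  rw [map_sub, map_one, Polynomial.expand_X]

end Groth.Agent.Sga4h.H911.LocConst
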