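import Groth.Agent.Sga4h.H925.LFOf

/-!
The vanishing of the defect of `detInvN` from the coefficientwise identity (converse of `H925.LFOf.LF_of_defect`), with the
order `n` of the truncation and the bound `N` for the degrees of the closed points independent of each other.
-/

set_option autoImplicit false

universe u v

open CategoryTheory CategoryTheory.Limits AlgebraicGeometry Opposite

namespace Groth.Agent.Sga4h.H911.DefectOf

open Groth.Agent.Sga4h.H925.Inv Groth.Agent.Sga4h.H925.DetInv Groth.Agent.Sga4h.H925.Defs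
open Groth.Agent.Sga4h.H925.LFOf Polynomial

variable {Λ : Type} [Field Λ]

/-- polynomials with constant term one and the same low coefficients give the same unit modulo `T^(n+1)`. -/
theorem trMap_of_coeff {n : ℕ} {f g : Λ[X]} (hf : f.coeff 0 = 1) (hg : g.coeff 0 = 1)
    (h : ∀ m ≤ n, f.coeff m = g.coeff m) :
    trMap Λ n (Additive.ofMul (psUnit f)) = trMap Λ n (Additive.ofMul (psUnit g)) := by
  have h1 : (Ideal.Quotient.mk (Ideal.span {(PowerSeries.X : PowerSeries Λ) ^ (n + 1)})) (psUnit f : PowerSeries Λ) =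
      (Ideal.Quotient.mk (Ideal.span {(PowerSeries.X : PowerSeries Λ) ^ (n + 1)})) (psUnit g : PowerSeries Λ) := by
    rw [val_psUnit hf, val_psUnit hg, Ideal.Quotient.eq, Ideal.mem_span_singleton, PowerSeries.X_pow_dvd_iff]
    intro m hm
    rw [map_sub, Polynomial.coeff_coe, Polynomial.coeff_coe, sub_eq_zero]
    exact h m (by omega)
  exact congrArg Additive.ofMul (Units.ext h1)

variable {k : Type u} [Field k] [Fintype k] (K : Type u) [Field K] [Algebra k K] [Algebra.IsAlgebraic k K]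
  [Fact FinFr.PullExact.{u}] {P : Scheme.{u}} (b : P ⟶ Spec (CommRingCat.of k))

/-- The L-function identity modulo `T^(n+1)` with the closed points of degree `≤ N`. -/
def LFn (M : EtLam.Sheaf Λ P) (n N : ℕ) : Prop :=
  ∀ m : ℕ, m ≤ n →
    Polynomial.coeff ((∏ᶠ i : {i : ℕ // Odd i}, FinFr.charRev (frobK K b M i.1)) *
        ∏ᶠ x : {x : FinFr.ClosedPt P // FinFr.ptDeg b x.1 ≤ N}, FinFr.locFactor b x.1.1 M) m =
      Polynomial.coeff (∏ᶠ i : {i : ℕ // Even i}, FinFr.charRev (frobK K b M i.1)) m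

/-- **The vanishing of the defect from the coefficientwise identity.** -/
theorem defect_of_LFn (M : EtLam.Sheaf Λ P) (n N m₀ : ℕ) (hm₀ : ∀ i, m₀ ≤ i → Subsingleton (HK K b M i))
    (hfin : Finite {x : FinFr.ClosedPt P // FinFr.ptDeg b x.1 ≤ N})
    (hloc : ∀ x : P, IsClosed ({x} : Set P) →
      FinFr.charRev (frobK K (P.fromSpecResidueField x ≫ b) (EtLam.pullback (P.fromSpecResidueField x) M) 0) =
        FinFr.locFactor b x M)
    (h : LFn K b M n N) : defect K (detInvN Λ n) b N M = 0 := by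
  classical
  obtain ⟨h1, h2, h3⟩ := alt_eq (fun i => HK K b M i) (fun i => frobK K b M i) m₀ hm₀ n
  have := Fintype.ofFinite {x : FinFr.ClosedPt P // FinFr.ptDeg b x.1 ≤ N}
  have hl1 : ∀ x : {x : FinFr.ClosedPt P // FinFr.ptDeg b x.1 ≤ N}, (FinFr.locFactor b x.1.1 M).coeff 0 = 1 := by
    intro x
    rw [← hloc x.1.1 x.1.2]
    exact coeff_zero_charRev _
  have hloc' : loc K (detInvN Λ n) b N M = trMap Λ n (Additive.ofMul (psUnit
      (∏ᶠ x : {x : FinFr.ClosedPt P // FinFr.ptDeg b x.1 ≤ N}, FinFr.locFactor b x.1.1 M))) := by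
    rw [loc, finsum_eq_sum_of_fintype, finprod_eq_prod_of_fintype,
      (psUnit_prod _ _ fun x _ => hl1 x).1, ofMul_prod, map_sum]
    refine Finset.sum_congr rfl fun x _ => ?_
    rw [locV, detInvN, mapInv_val, detInv_one_val, hloc x.1.1 x.1.2]
  have hl2 : (∏ᶠ x : {x : FinFr.ClosedPt P // FinFr.ptDeg b x.1 ≤ N}, FinFr.locFactor b x.1.1 M).coeff 0 = 1 := by
    rw [finprod_eq_prod_of_fintype]
    exact (psUnit_prod _ _ fun x _ => hl1 x).2
  have h4 := trMap_of_coeff (n := n) (by rw [mul_coeff_zero, h2, hl2, one_mul]) h3 h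
  rw [psUnit_mul h2 hl2, ofMul_mul, map_add, ← hloc', ← h1] at h4
  have h5 : loc K (detInvN Λ n) b N M = glob K (detInvN Λ n) b M :=
    add_left_cancel (h4.trans (add_comm (G := Additive (TrRing Λ n)ˣ) _ _))
  rw [defect, h5, sub_self]

end Groth.Agent.Sga4h.H911.DefectOf
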