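import Groth.Prelude.Def_FinFrL
import Mathlib.Algebra.BigOperators.Finprod

/-!
Finite sums and products over degrees `0, 1, 2`.
-/

set_option autoImplicit false

open Polynomial

namespace Groth.Agent.Sga4h.H911.FinAux

theorem charRev_of_subsingleton {Λ : Type} [CommRing Λ] {V : Type*} [AddCommGroup V] [Module Λ V] [Subsingleton V]
    (φ : V →ₗ[Λ] V) : FinFr.charRev φ = 1 := by
  have : Subsingleton (TensorProduct Λ Λ[X] V) := inferInstance
  rw [FinFr.charRev, LinearMap.det_eq_one_of_subsingleton]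

theorem finsum_eq_three {M : Type*} [AddCommMonoid M] (f : ℕ → M) (h : ∀ i, 2 < i → f i = 0) :
    ∑ᶠ i, f i = f 0 + f 1 + f 2 := by
  rw [finsum_eq_sum_of_support_subset (s := Finset.range 3) f (fun i hi => by
    rw [Finset.coe_range, Set.mem_Iio]
    by_contra h3
    exact hi (h i (by omega)))]
  rw [Finset.sum_range_succ, Finset.sum_range_succ, Finset.sum_range_succ, Finset.sum_range_zero, zero_add]

theorem finprod_odd {M : Type*} [CommMonoid M] (f : ℕ → M) (h : ∀ i, 2 < i → f i = 1) :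
    ∏ᶠ i : {i : ℕ // Odd i}, f i.1 = ∏ i ∈ ({1} : Finset ℕ), f i := by
  rw [Finset.prod_singleton, finprod_eq_single (fun i : {i : ℕ // Odd i} => f i.1) ⟨1, odd_one⟩]
  intro i hi
  apply h
  have h1 : i.1 ≠ 1 := fun h => hi (Subtype.ext h)
  obtain ⟨c, hc⟩ := i.2
  omega

theorem finprod_even {M : Type*} [CommMonoid M] (f : ℕ → M) (h : ∀ i, 2 < i → f i = 1) :
    ∏ᶠ i : {i : ℕ // Even i}, f i.1 = ∏ i ∈ ({0, 2} : Finset ℕ), f i := by
  rw [Finset.prod_pair (by norm_num)]
  rw [finprod_eq_prod_of_mulSupport_subset (s := {⟨0, by decide⟩, ⟨2, by decide⟩}), Finset.prod_pair]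
  · intro h; have := congrArg Subtype.val h; exact absurd this (by norm_num)
  · intro i hi
    rw [Function.mem_mulSupport] at hi
    have h1 : ¬ 2 < i.1 := fun h2 => hi (h _ h2)
    obtain ⟨c, hc⟩ := i.2
    rw [Finset.coe_insert, Finset.coe_singleton]
    have : i.1 = 0 ∨ i.1 = 2 := by omega
    rcases this with h2 | h2
    · left; exact Subtype.ext h2
    · right; exact Subtype.ext h2

theorem trace_of_subsingleton {Λ : Type} [CommRing Λ] {V : Type*} [AddCommGroup V] [Module Λ V] [Subsingleton V]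
    (φ : V →ₗ[Λ] V) : LinearMap.trace Λ V φ = 0 := by
  rw [Subsingleton.elim φ 0, map_zero]

end Groth.Agent.Sga4h.H911.FinAux
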