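import Groth.Agent.Etcore.EtInst

/-!
Definition: the orders of the groups `H^i(X, ℤ/n)` are `n^(b i)`.
-/

set_option autoImplicit false

universe u

open CategoryTheory AlgebraicGeometry
open scoped Groth.Agent.Etcore.EtInst
open Groth.Agent.Etcore.EtInst

namespace Groth.Agent.Sga4h.H911.CardComp

/-- `|H^i(X, ℤ/n)| = n^(b i)` for all `n` in `S`, and `b i = 0` for `i > 2`. -/
def HasCard (S : Set ℕ) (X : Scheme.{u}) : Prop :=
  ∃ b : ℕ → ℕ, (∀ i, 2 < i → b i = 0) ∧ ∀ n ∈ S, ∀ i, Nat.card (HH X (EtCoh.const X (ZMod n)) i) = n ^ b i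

theorem HasCard.mono {S T : Set ℕ} {X : Scheme.{u}} (h : HasCard S X) (hT : T ⊆ S) : HasCard T X := by
  obtain ⟨b, hb, h⟩ := h
  exact ⟨b, hb, fun n hn i => h n (hT hn) i⟩

end Groth.Agent.Sga4h.H911.CardComp
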