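import Groth.Agent.S0224
import Groth.Agent.S0225
import Groth.Agent.S0203
import Groth.Agent.S0659
import Groth.Agent.S0101
import Groth.Agent.Etrest.SHPoint
import Groth.Agent.Etrest.ConstBasic
import Groth.Agent.Sga4B.RelCurveFibre
import Groth.Agent.Sga4B.ClosedSupp
import Groth.Agent.Sga4h.H911.CardDef

/-!
Orders of `H^i(X, ℤ/n)` for a smooth proper curve `X` over an algebraically closed field, possibly disconnected:
`|H^i(X, ℤ/n)| = n^(b i)` with `b` independent of `n`.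
-/

set_option autoImplicit false

universe u

open CategoryTheory CategoryTheory.Limits AlgebraicGeometry Opposite Abelian TopologicalSpace
open scoped Groth.Agent.Etcore.EtInst
open Groth.Agent.Etcore.EtInst

namespace Groth.Agent.Sga4h.H911.CardComp

theorem HasCard.of_isEmpty (S : Set ℕ) (X : Scheme.{u}) [IsEmpty X] : HasCard S X := by
  refine ⟨fun _ => 0, fun _ _ => rfl, fun n _ i => ?_⟩
  have h0 := Groth.Agent.Sga4B.ClosedSupp.isZero_of_isEmpty (EtCoh.const X (ZMod n))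
  have : Subsingleton (HH X (EtCoh.const X (ZMod n)) i) := by
    refine ⟨fun x y => ?_⟩
    rw [← HHmap_id _ i x, ← HHmap_id _ i y, h0.eq_of_src (𝟙 _) 0, HHmap_apply, HHmap_apply, Ext.mk₀_zero, Ext.comp_zero,
      Ext.comp_zero]
  rw [pow_zero, Nat.card_eq_one_iff_unique]
  exact ⟨this, ⟨0⟩⟩

/-- Betti numbers. -/
def bet (b : ℕ) : ℕ → ℕ
  | 0 => 1
  | 1 => b
  | 2 => 1
  | _ + 3 => 0

theorem HasCard.of_curve (k : Type u) [Field k] [IsAlgClosed k] (S : Set ℕ) (hS : ∀ n ∈ S, 1 ≤ n ∧ (n : k) ≠ 0)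
    (X : Scheme.{u}) [ConnectedSpace X] (f : X ⟶ Spec (CommRingCat.of k)) [IsProper f] [SmoothOfRelativeDimension 1 f] :
    HasCard S X := by
  have h2 := Groth.Agent.Sga4B.RelCurveFibre.isSmoothProperCurve f
  let : X.Over (Spec (CommRingCat.of k)) := ⟨f⟩
  refine ⟨bet (2 * Module.finrank k (Coh.HH X (Coh.structureModule X) 1)), fun i hi => ?_, fun n hn i => ?_⟩
  · match i with
    | i + 3 => rfl
    | 0 | 1 | 2 => omega
  · obtain ⟨hn1, hnk⟩ := hS n hn
    match i with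
    | 0 =>
      obtain ⟨e⟩ := Groth.Agent.Etrest.SHPoint.nonempty_H0_const X (ZMod n)
      rw [bet, pow_one]
      exact (Nat.card_congr e.toEquiv).trans (Nat.card_zmod n)
    | 1 =>
      obtain ⟨e⟩ := Groth.Agent.S0224.result k X h2 _ rfl n hn1 hnk
      rw [bet]
      refine (Nat.card_congr e.toEquiv).trans ?_
      rw [Nat.card_fun, Nat.card_zmod, Nat.card_eq_fintype_card, Fintype.card_fin]
    | 2 =>
      obtain ⟨e⟩ := Groth.Agent.S0225.result k X h2 n hn1 hnk
      rw [bet, pow_one]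
      exact (Nat.card_congr e.toEquiv).trans (Nat.card_zmod n)
    | i + 3 =>
      have htor : EtCoh.IsTorsion (EtCoh.const X (ZMod n)) :=
        Groth.Agent.Etrest.ConstBasic.isTorsion_of_killedBy (n := n) (by omega)
          (Groth.Agent.Etrest.ConstBasic.killedBy_const X (ZMod n) n (fun m => by simp))
      have := Groth.Agent.S0203.result k X f (by rw [h2.2.2.2]) _ htor (i + 3) (by omega)
      rw [bet, pow_zero, Nat.card_eq_one_iff_unique]
      exact ⟨this, ⟨(0 : HH X (EtCoh.const X (ZMod n)) (i + 3))⟩⟩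

/-- Disjoint unions. -/
theorem HasCard.union (S : Set ℕ) (X : Scheme.{u}) (U V : X.Opens) (hUV : U ⊔ V = ⊤) (hd : U ⊓ V = ⊥)
    (hU : HasCard S U) (hV : HasCard S V) : HasCard S X := by
  obtain ⟨b, hb, hbS⟩ := hU
  obtain ⟨c, hc, hcS⟩ := hV
  refine ⟨fun i => b i + c i, fun i hi => by beta_reduce; rw [hb i hi, hc i hi], fun n hn i => ?_⟩
  have i1 : PreservesFiniteLimits (EtCoh.pull U.ι) := Groth.Agent.S0101.result _
  have i2 : PreservesFiniteLimits (EtCoh.pull V.ι) := Groth.Agent.S0101.result _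
  have i3 : PreservesFiniteLimits (EtCoh.pull (X.homOfLE (inf_le_left : U ⊓ V ≤ U))) := Groth.Agent.S0101.result _
  have i4 : PreservesFiniteLimits (EtCoh.pull (X.homOfLE (inf_le_right : U ⊓ V ≤ V))) := Groth.Agent.S0101.result _
  obtain ⟨δ, h0, h1, h2, h3⟩ := Groth.Agent.S0659.result X U V hUV (EtCoh.const X (ZMod n))
  have hempty : IsEmpty ↥((U ⊓ V : X.Opens) : Scheme.{u}) := by
    rw [hd]
    exact ⟨fun x => x.2⟩
  have hsub : ∀ i, Subsingleton (EtCoh.H ↑(U ⊓ V) ((EtCoh.pull (U ⊓ V).ι).obj (EtCoh.const X (ZMod n))) i) := by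
    intro i
    have h0 := Groth.Agent.Sga4B.ClosedSupp.isZero_of_isEmpty ((EtCoh.pull (U ⊓ V).ι).obj (EtCoh.const X (ZMod n)))
    refine ⟨fun x y => ?_⟩
    rw [← HHmap_id _ i x, ← HHmap_id _ i y, h0.eq_of_src (𝟙 _) 0, HHmap_apply, HHmap_apply, Ext.mk₀_zero, Ext.comp_zero,
      Ext.comp_zero]
  have hinj : ∀ i, Function.Injective (AddMonoidHom.prod (EtCore.Hpull U.ι (EtCoh.const X (ZMod n)) i)
      (EtCore.Hpull V.ι (EtCoh.const X (ZMod n)) i)) := by
    intro i
    rw [← AddMonoidHom.ker_eq_bot_iff]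
    match i with
    | 0 => exact h0
    | i + 1 =>
      rw [h1 i, eq_bot_iff]
      rintro _ ⟨x, rfl⟩
      rw [(hsub i).elim x 0, map_zero]
      exact AddSubgroup.zero_mem _
  have hsurj : ∀ i, Function.Surjective (AddMonoidHom.prod (EtCore.Hpull U.ι (EtCoh.const X (ZMod n)) i)
      (EtCore.Hpull V.ι (EtCoh.const X (ZMod n)) i)) := by
    intro i
    rw [← AddMonoidHom.range_eq_top, ← h2 i, eq_top_iff]
    intro x _
    rw [AddMonoidHom.mem_ker]
    exact (hsub i).elim _ _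
  have e := Equiv.ofBijective _ ⟨hinj i, hsurj i⟩
  have hcU : Nat.card (HH U ((EtCoh.pull U.ι).obj (EtCoh.const X (ZMod n))) i) = n ^ b i :=
    (Nat.card_congr (HHcongr (EtCore.pullConst U.ι (ZMod n)) i).toEquiv).trans (hbS n hn i)
  have hcV : Nat.card (HH V ((EtCoh.pull V.ι).obj (EtCoh.const X (ZMod n))) i) = n ^ c i :=
    (Nat.card_congr (HHcongr (EtCore.pullConst V.ι (ZMod n)) i).toEquiv).trans (hcS n hn i)
  refine (Nat.card_congr e).trans ?_
  rw [Nat.card_prod, pow_add]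
  exact congrArg₂ (· * ·) hcU hcV

/-- Clopen subschemes of a smooth proper curve. -/
theorem hasCard_clopen (k : Type u) [Field k] [IsAlgClosed k] (S : Set ℕ) (hS : ∀ n ∈ S, 1 ≤ n ∧ (n : k) ≠ 0)
    (X : Scheme.{u}) (f : X ⟶ Spec (CommRingCat.of k)) [IsProper f] [SmoothOfRelativeDimension 1 f]
    (W : Closeds X) (hW : IsOpen (W : Set X)) (Z : Scheme.{u}) (j : Z ⟶ X) [IsOpenImmersion j]
    (hj : Set.range j = (W : Set X)) : HasCard S Z := by
  have : IsLocallyNoetherian X := LocallyOfFiniteType.isLocallyNoetherian f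
  have : CompactSpace X := QuasiCompact.compactSpace_of_compactSpace f
  have : IsNoetherian X := {}
  revert Z
  induction W using WellFoundedLT.induction with
  | ind W ih => ?_
  intro Z j hjo hj
  by_cases he : (W : Set X) = ∅
  · have : IsEmpty Z := ⟨fun x => by
      have h1 : j x ∈ (W : Set X) := by rw [← hj]; exact ⟨x, rfl⟩
      rw [he] at h1
      exact h1⟩
    exact HasCard.of_isEmpty S Z
  by_cases hc : _root_.IsPreconnected (W : Set X)
  · have h1 : _root_.IsPreconnected (Set.univ : Set Z) := by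
      rw [← j.isOpenEmbedding.isInducing.isPreconnected_image, Set.image_univ, hj]
      exact hc
    have : PreconnectedSpace Z := ⟨h1⟩
    have : Nonempty Z := by
      obtain ⟨x, hx⟩ := Set.nonempty_iff_ne_empty.2 he
      rw [← hj] at hx
      obtain ⟨z, -⟩ := hx
      exact ⟨z⟩
    have : ConnectedSpace Z := ConnectedSpace.mk ‹_›
    have : IsClosedImmersion j := IsClosedImmersion.of_isPreimmersion j (by rw [hj]; exact W.isClosed)
    have : SmoothOfRelativeDimension 1 (j ≫ f) := smoothOfRelativeDimension_comp (n := 0) (m := 1) j f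
    exact HasCard.of_curve k S hS Z (j ≫ f)
  · rw [isPreconnected_closed_iff] at hc
    push Not at hc
    obtain ⟨t, t', ht, ht', hsub, ⟨x, hxW, hxt⟩, ⟨x', hxW', hxt'⟩, hemp⟩ := hc
    let W₁ : Closeds X := ⟨(W : Set X) ∩ t, W.isClosed.inter ht⟩
    let W₂ : Closeds X := ⟨(W : Set X) ∩ t', W.isClosed.inter ht'⟩
    have h12 : ∀ y, y ∈ (W : Set X) → (y ∈ t ↔ y ∉ t') := by
      intro y hy
      constructor
      · intro h h'
        exact Set.notMem_empty y (hemp ▸ ⟨hy, h, h'⟩)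
      · intro h
        exact (hsub hy).resolve_right h
    have e1 : (W₁ : Set X) = (W : Set X) \ (W₂ : Set X) := by
      ext y
      change (y ∈ (W : Set X) ∧ y ∈ t) ↔ (y ∈ (W : Set X) ∧ ¬ (y ∈ (W : Set X) ∧ y ∈ t'))
      constructor
      · rintro ⟨h, h'⟩; exact ⟨h, fun h2 => ((h12 y h).1 h') h2.2⟩
      · rintro ⟨h, h'⟩; exact ⟨h, (h12 y h).2 fun h2 => h' ⟨h, h2⟩⟩
    have e2 : (W₂ : Set X) = (W : Set X) \ (W₁ : Set X) := by
      ext y
      change (y ∈ (W : Set X) ∧ y ∈ t') ↔ (y ∈ (W : Set X) ∧ ¬ (y ∈ (W : Set X) ∧ y ∈ t))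
      constructor
      · rintro ⟨h, h'⟩; exact ⟨h, fun h2 => ((h12 y h).1 h2.2) h'⟩
      · rintro ⟨h, h'⟩
        refine ⟨h, ?_⟩
        by_contra h2
        exact h' ⟨h, (h12 y h).2 h2⟩
    have o1 : IsOpen (W₁ : Set X) := by rw [e1]; exact hW.sdiff W₂.isClosed
    have o2 : IsOpen (W₂ : Set X) := by rw [e2]; exact hW.sdiff W₁.isClosed
    have l1 : W₁ < W := lt_of_le_of_ne (fun y hy => hy.1) (fun h => by
      have : x' ∈ (W₁ : Set X) := by rw [h]; exact hxW'
      exact ((h12 x' hxW').1 this.2) hxt')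
    have l2 : W₂ < W := lt_of_le_of_ne (fun y hy => hy.1) (fun h => by
      have : x ∈ (W₂ : Set X) := by rw [h]; exact hxW
      exact ((h12 x hxW).1 hxt) this.2)
    let U : Z.Opens := j ⁻¹ᵁ ⟨W₁, o1⟩
    let V : Z.Opens := j ⁻¹ᵁ ⟨W₂, o2⟩
    have hrange : ∀ (T : Closeds X) (hT : IsOpen (T : Set X)), T ≤ W →
        Set.range ((j ⁻¹ᵁ (⟨T, hT⟩ : X.Opens)).ι ≫ j) = (T : Set X) := by
      intro T hT hTW
      rw [Scheme.Hom.comp_base, TopCat.coe_comp, Set.range_comp, Scheme.Opens.range_ι]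
      ext y
      constructor
      · rintro ⟨z, hz, rfl⟩; exact hz
      · intro hy
        have : y ∈ Set.range j := by rw [hj]; exact hTW hy
        obtain ⟨z, rfl⟩ := this
        exact ⟨z, hy, rfl⟩
    refine HasCard.union S Z U V ?_ ?_ (ih W₁ l1 o1 _ (U.ι ≫ j) (hrange W₁ o1 l1.le)) (ih W₂ l2 o2 _ (V.ι ≫ j) (hrange W₂ o2 l2.le))
    · ext z
      change (j z ∈ (W : Set X) ∧ j z ∈ t) ∨ (j z ∈ (W : Set X) ∧ j z ∈ t') ↔ True
      have hz : j z ∈ (W : Set X) := by rw [← hj]; exact ⟨z, rfl⟩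
      simp only [iff_true]
      rcases hsub hz with h | h
      · exact Or.inl ⟨hz, h⟩
      · exact Or.inr ⟨hz, h⟩
    · ext z
      change (j z ∈ (W : Set X) ∧ j z ∈ t) ∧ (j z ∈ (W : Set X) ∧ j z ∈ t') ↔ False
      simp only [iff_false]
      rintro ⟨⟨h1, h2⟩, -, h3⟩
      exact ((h12 _ h1).1 h2) h3

/-- **Orders of the cohomology groups of a smooth proper curve** (possibly disconnected or empty). -/
theorem hasCard (k : Type u) [Field k] [IsAlgClosed k] (S : Set ℕ) (hS : ∀ n ∈ S, 1 ≤ n ∧ (n : k) ≠ 0)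
    (X : Scheme.{u}) (f : X ⟶ Spec (CommRingCat.of k)) [IsProper f] [SmoothOfRelativeDimension 1 f] : HasCard S X :=
  hasCard_clopen k S hS X f ⊤ isOpen_univ X (𝟙 X) (by simp)

end Groth.Agent.Sga4h.H911.CardComp
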