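import Groth.Agent.Sga4h.H911.ZetaMod
import Groth.Agent.Etcore.EtInst
import Groth.Prelude.Def_EtBase
import Groth.Prelude.Def_EtCore

/-!
Flat lifts of cohomology groups from counting: if `|H^i(X, Φ(ℤ/ℓ^m))| = (ℓ^m)^(b i)` for all `m`, then
`H^i(X, Φ(ℤ/ℓ^(N+1))) → H^i(X, Φ(ℤ/ℓ))` is a flat lift in the sense of `ZetaMod.IsLift`.
-/

set_option autoImplicit false

universe u

open CategoryTheory CategoryTheory.Limits AlgebraicGeometry Opposite Abelian
open scoped Groth.Agent.Etcore.EtInst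
open Groth.Agent.Etcore.EtInst

namespace Groth.Agent.Sga4h.H911.CardLift

/-- Counting in a three term exact sequence. -/
theorem injective_surjective_of_card {A B C : Type*} [AddCommGroup A] [AddCommGroup B] [AddCommGroup C] (f : A →+ B)
    (g : B →+ C) (hex : ∀ b, g b = 0 → ∃ a, f a = b) (hgf : ∀ a, g (f a) = 0) [Finite A] [Finite C]
    (h : Nat.card B = Nat.card A * Nat.card C) : Function.Injective f ∧ Function.Surjective g := by
  have hA : 0 < Nat.card A := Nat.card_pos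
  have hC : 0 < Nat.card C := Nat.card_pos
  have hB : Finite B := Nat.finite_of_card_ne_zero (by rw [h]; positivity)
  have hker : g.ker = f.range := by
    ext b
    rw [AddMonoidHom.mem_ker, AddMonoidHom.mem_range]
    exact ⟨fun hb => hex b hb, fun ⟨a, ha⟩ => by rw [← ha, hgf]⟩
  have h1 : Nat.card B = Nat.card g.range * Nat.card g.ker := by
    rw [AddSubgroup.card_eq_card_quotient_mul_card_addSubgroup g.ker,
      Nat.card_congr (QuotientAddGroup.quotientKerEquivRange g).toEquiv]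
  have h2 : Nat.card f.range ≤ Nat.card A := Finite.card_range_le f
  have h3 : Nat.card g.range ≤ Nat.card C := Finite.card_subtype_le _
  have h0 : 0 < Nat.card f.range := Nat.card_pos
  have h0' : 0 < Nat.card g.range := Nat.card_pos
  rw [hker, h] at h1
  have h4 : Nat.card f.range = Nat.card A := by
    by_contra hne
    have hlt : Nat.card f.range < Nat.card A := lt_of_le_of_ne h2 hne
    have : Nat.card g.range * Nat.card f.range < Nat.card A * Nat.card C := by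
      calc Nat.card g.range * Nat.card f.range < Nat.card g.range * Nat.card A := Nat.mul_lt_mul_of_pos_left hlt h0'
        _ ≤ Nat.card C * Nat.card A := Nat.mul_le_mul_right _ h3
        _ = Nat.card A * Nat.card C := Nat.mul_comm _ _
    omega
  have h5 : Nat.card g.range = Nat.card C := by
    rw [h4, mul_comm] at h1
    exact (Nat.eq_of_mul_eq_mul_right hA (by rw [← h1, mul_comm])).symm
  refine ⟨?_, ?_⟩
  · have hsurj : Function.Surjective f.rangeRestrict := f.rangeRestrict_surjective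
    have hbij : Function.Bijective f.rangeRestrict := by
      have : Fintype A := Fintype.ofFinite A
      have : Fintype f.range := Fintype.ofFinite _
      rw [Fintype.bijective_iff_surjective_and_card]
      exact ⟨hsurj, by rw [← Nat.card_eq_fintype_card, ← Nat.card_eq_fintype_card, h4]⟩
    intro x y hxy
    exact hbij.1 (Subtype.ext hxy)
  · have h6 : g.range = ⊤ := AddSubgroup.eq_top_of_card_eq _ h5
    exact AddMonoidHom.range_eq_top.1 h6

section ZMod

variable {a b n : ℕ} (hn : a * b = n)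

/-- multiplication by `b : ℤ/a → ℤ/ab`. -/
noncomputable def mulZ : ZMod a →+ ZMod n :=
  ZMod.lift a ⟨zmultiplesHom (ZMod n) (b : ZMod n), by
    rw [zmultiplesHom_apply, natCast_zsmul, nsmul_eq_mul, ← Nat.cast_mul, hn, ZMod.natCast_self]⟩

theorem mulZ_intCast (z : ℤ) : mulZ hn (z : ZMod a) = z * (b : ZMod n) := by
  rw [mulZ, ZMod.lift_coe]
  simp

/-- the projection `ℤ/ab → ℤ/b`. -/
noncomputable def redZ : ZMod n →+ ZMod b := (ZMod.castHom (Dvd.intro_left a hn) (ZMod b)).toAddMonoidHom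

theorem redZ_intCast (z : ℤ) : redZ hn (z : ZMod n) = (z : ZMod b) := map_intCast (ZMod.castHom (Dvd.intro_left a hn) (ZMod b)) z

theorem redZ_mulZ (x : ZMod a) : redZ hn (mulZ hn x) = 0 := by
  obtain ⟨z, rfl⟩ := ZMod.intCast_surjective x
  rw [mulZ_intCast]
  have : (z : ZMod n) * (b : ZMod n) = ((z * b : ℤ) : ZMod n) := by push_cast; ring
  rw [this, redZ_intCast]
  push_cast
  rw [ZMod.natCast_self, mul_zero]

theorem redZ_surjective : Function.Surjective (redZ hn) := ZMod.ringHom_surjective _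

theorem exists_mulZ (x : ZMod n) (hx : redZ hn x = 0) : ∃ y, mulZ hn y = x := by
  obtain ⟨z, rfl⟩ := ZMod.intCast_surjective x
  rw [redZ_intCast, ZMod.intCast_zmod_eq_zero_iff_dvd] at hx
  obtain ⟨t, rfl⟩ := hx
  exact ⟨(t : ZMod a), by rw [mulZ_intCast]; push_cast; ring⟩

theorem mulZ_injective (hb : b ≠ 0) : Function.Injective (mulZ hn) := by
  rw [injective_iff_map_eq_zero]
  intro x hx
  obtain ⟨z, rfl⟩ := ZMod.intCast_surjective x
  rw [mulZ_intCast] at hx
  have : (z : ZMod n) * (b : ZMod n) = ((z * b : ℤ) : ZMod n) := by push_cast; ring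
  rw [this, ZMod.intCast_zmod_eq_zero_iff_dvd, ← hn] at hx
  rw [ZMod.intCast_zmod_eq_zero_iff_dvd]
  push_cast at hx
  exact Int.dvd_of_mul_dvd_mul_right (by exact_mod_cast hb) hx

/-- `ℤ/n → ℤ/a → ℤ/n` (reduction, then multiplication by `b`) is multiplication by `b`. -/
theorem mulZ_redZ (hn' : b * a = n) (x : ZMod n) : mulZ hn (redZ hn' x) = b • x := by
  obtain ⟨z, rfl⟩ := ZMod.intCast_surjective x
  rw [redZ_intCast, mulZ_intCast, nsmul_eq_mul, mul_comm]

end ZMod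

/-- a homomorphism of abelian groups, one universe up. -/
noncomputable def up {A B : Type} [AddCommGroup A] [AddCommGroup B] (φ : A →+ B) :
    AddCommGrpCat.of (ULift.{u + 1} A) ⟶ AddCommGrpCat.of (ULift.{u + 1} B) :=
  AddCommGrpCat.ofHom (AddEquiv.ulift.symm.toAddMonoidHom.comp (φ.comp AddEquiv.ulift.toAddMonoidHom))

theorem up_apply {A B : Type} [AddCommGroup A] [AddCommGroup B] (φ : A →+ B) (x : ULift.{u + 1} A) :
    (up.{u} φ).hom x = ULift.up (φ x.down) := rfl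

theorem up_comp {A B C : Type} [AddCommGroup A] [AddCommGroup B] [AddCommGroup C] (φ : A →+ B) (ψ : B →+ C) :
    up.{u} (ψ.comp φ) = up φ ≫ up ψ := rfl

theorem up_zero {A B : Type} [AddCommGroup A] [AddCommGroup B] : up.{u} (0 : A →+ B) = 0 := rfl

theorem shortExact_up {A B C : Type} [AddCommGroup A] [AddCommGroup B] [AddCommGroup C] (φ : A →+ B) (ψ : B →+ C)
    (h0 : ∀ x, ψ (φ x) = 0) (hex : ∀ y, ψ y = 0 → ∃ x, φ x = y) (hi : Function.Injective φ)
    (hs : Function.Surjective ψ) : ∃ w : up.{u} φ ≫ up ψ = 0, (ShortComplex.mk (up.{u} φ) (up ψ) w).ShortExact := by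
  have w : up.{u} φ ≫ up ψ = 0 := by
    rw [← up_comp]
    have : ψ.comp φ = 0 := AddMonoidHom.ext h0
    rw [this, up_zero]
  refine ⟨w, { exact := ?_, mono_f := ?_, epi_g := ?_ }⟩
  · rw [ShortComplex.ab_exact_iff]
    intro x hx
    obtain ⟨y, hy⟩ := hex x.down (congrArg ULift.down hx)
    exact ⟨ULift.up y, ULift.down_injective hy⟩
  · rw [AddCommGrpCat.mono_iff_injective]
    intro x y h
    exact ULift.down_injective (hi (congrArg ULift.down h))
  · rw [AddCommGrpCat.epi_iff_surjective]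
    intro y
    obtain ⟨k, hk⟩ := hs y.down
    exact ⟨ULift.up k, ULift.down_injective hk⟩

section Coh

theorem HHmap_nsmul {X : Scheme.{u}} {F G : EtCoh.Ab X} (m : ℕ) (φ : F ⟶ G) (n : ℕ) (x : HH X F n) :
    HHmap (m • φ) n x = m • HHmap φ n x := by
  induction m with
  | zero => rw [zero_smul, zero_smul, HHmap_apply, Ext.mk₀_zero, Ext.comp_zero]
  | succ m ih => rw [succ_nsmul, succ_nsmul, ← ih, HHmap_apply, Ext.mk₀_add, Ext.comp_add]; rfl

variable {X : Scheme.{u}} (Φ : AddCommGrpCat.{u + 1} ⥤ EtCoh.Ab X) [Φ.Additive] [PreservesFiniteLimits Φ]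
  [PreservesFiniteColimits Φ]

/-- Exactness of cohomology in the middle for the image of a short exact sequence. -/
theorem exact_middle {A B C : Type} [AddCommGroup A] [AddCommGroup B] [AddCommGroup C] (φ : A →+ B) (ψ : B →+ C)
    (h0 : ∀ x, ψ (φ x) = 0) (hex : ∀ y, ψ y = 0 → ∃ x, φ x = y) (hi : Function.Injective φ)
    (hs : Function.Surjective ψ) (i : ℕ) (y : HH X (Φ.obj (AddCommGrpCat.of (ULift.{u + 1} B))) i) :
    HHmap (Φ.map (up ψ)) i y = 0 ↔ ∃ x, HHmap (Φ.map (up φ)) i x = y := by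
  obtain ⟨w, hS⟩ := shortExact_up.{u} φ ψ h0 hex hi hs
  have hS' := hS.map_of_exact Φ
  constructor
  · intro hy
    exact Ext.covariant_sequence_exact₂ _ hS' y hy
  · rintro ⟨x, rfl⟩
    rw [← HHmap_comp, ← Φ.map_comp, w, Φ.map_zero, HHmap_apply, Ext.mk₀_zero, Ext.comp_zero]

/-- Flatness of the cohomology of `Φ(ℤ/ℓ^m)` from the orders. -/
theorem lift_of_card (ℓ : ℕ) [hℓ : Fact ℓ.Prime] (i b : ℕ)
    (hcard : ∀ m, Nat.card (HH X (Φ.obj (AddCommGrpCat.of (ULift.{u + 1} (ZMod (ℓ ^ m))))) i) = (ℓ ^ m) ^ b)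
    (hcard1 : Nat.card (HH X (Φ.obj (AddCommGrpCat.of (ULift.{u + 1} (ZMod ℓ)))) i) = ℓ ^ b) (N : ℕ) :
    Finite (HH X (Φ.obj (AddCommGrpCat.of (ULift.{u + 1} (ZMod ℓ)))) i) ∧
    Function.Surjective (HHmap (Φ.map (up.{u} (redZ (a := ℓ ^ N) (b := ℓ) (n := ℓ ^ (N + 1)) rfl))) i) ∧
    (∀ v, HHmap (Φ.map (up.{u} (redZ (a := ℓ ^ N) (b := ℓ) (n := ℓ ^ (N + 1)) rfl))) i v = 0 → ∃ w, v = ℓ • w) ∧
    Nat.card (HH X (Φ.obj (AddCommGrpCat.of (ULift.{u + 1} (ZMod (ℓ ^ (N + 1)))))) i) =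
      Nat.card (HH X (Φ.obj (AddCommGrpCat.of (ULift.{u + 1} (ZMod ℓ)))) i) ^ (N + 1) := by
  have hℓ0 : ℓ ≠ 0 := hℓ.out.ne_zero
  have hfin : ∀ m, Finite (HH X (Φ.obj (AddCommGrpCat.of (ULift.{u + 1} (ZMod (ℓ ^ m))))) i) := fun m =>
    Nat.finite_of_card_ne_zero (by rw [hcard]; exact pow_ne_zero _ (pow_ne_zero _ hℓ0))
  have hfin1 : Finite (HH X (Φ.obj (AddCommGrpCat.of (ULift.{u + 1} (ZMod ℓ)))) i) :=
    Nat.finite_of_card_ne_zero (by rw [hcard1]; exact pow_ne_zero _ hℓ0)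
  have hn1 : ℓ ^ N * ℓ = ℓ ^ (N + 1) := rfl
  have hn2 : ℓ * ℓ ^ N = ℓ ^ (N + 1) := by rw [pow_succ, mul_comm]
  -- `0 → ℤ/ℓ^N → ℤ/ℓ^(N+1) → ℤ/ℓ → 0`
  have E1 := exact_middle Φ (mulZ hn1) (redZ hn1) (redZ_mulZ hn1) (exists_mulZ hn1) (mulZ_injective hn1 hℓ0)
    (redZ_surjective hn1) i
  have E2 := exact_middle Φ (mulZ hn2) (redZ hn2) (redZ_mulZ hn2) (exists_mulZ hn2)
    (mulZ_injective hn2 (pow_ne_zero _ hℓ0)) (redZ_surjective hn2) i
  have R1 := injective_surjective_of_card _ _ (fun y hy => (E1 y).1 hy) (fun x => (E1 _).2 ⟨x, rfl⟩)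
    (by rw [hcard, hcard, hcard1, ← mul_pow, ← pow_succ])
  have R2 := injective_surjective_of_card _ _ (fun y hy => (E2 y).1 hy) (fun x => (E2 _).2 ⟨x, rfl⟩)
    (by rw [hcard, hcard, hcard1, ← mul_pow, hn2])
  refine ⟨hfin1, R1.2, fun v hv => ?_, ?_⟩
  · obtain ⟨x, rfl⟩ := (E1 v).1 hv
    obtain ⟨w, rfl⟩ := R2.2 x
    refine ⟨w, ?_⟩
    rw [← HHmap_comp, ← Φ.map_comp, ← up_comp]
    have h1 : (mulZ hn1).comp (redZ hn2) = ℓ • AddMonoidHom.id _ := AddMonoidHom.ext fun x => mulZ_redZ hn1 hn2 x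
    have h2 : up.{u} (ℓ • AddMonoidHom.id (ZMod (ℓ ^ (N + 1)))) = ℓ • 𝟙 _ := by
      ext x
      rw [AddCommGrpCat.hom_nsmul]
      rfl
    rw [h1, h2, Φ.map_nsmul, Φ.map_id, HHmap_nsmul, HHmap_id]
  · rw [hcard, hcard1, ← pow_mul, ← pow_mul, mul_comm]

end Coh

end Groth.Agent.Sga4h.H911.CardLift
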