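import Groth.Agent.Sga4h.H911.ConstExt
import Groth.Agent.Sga4h.H925.DetInv

/-!
The reversed characteristic polynomial of the Galois action under extension of the coefficients `Λ → Λ₂`.
-/

set_option autoImplicit false

universe u

open CategoryTheory CategoryTheory.Limits AlgebraicGeometry Opposite Polynomial TensorProduct

namespace Groth.Agent.Sga4h.H911.CharRevExt

section Alg

variable {Λ Λ₂ : Type} [Field Λ] [Field Λ₂] [Algebra Λ Λ₂]

/-- base change of the coefficients. -/
theorem charRev_baseChange {V : Type*} [AddCommGroup V] [Module Λ V] [FiniteDimensional Λ V] (φ : V →ₗ[Λ] V) :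
    FinFr.charRev (φ.baseChange Λ₂) = (FinFr.charRev φ).map (algebraMap Λ Λ₂) := by
  classical
  let b := Module.finBasis Λ V
  rw [Groth.Agent.Sga4h.H925.DetInv.charRev_eq b, Groth.Agent.Sga4h.H925.DetInv.charRev_eq (b.baseChange Λ₂),
    ← NewtonDet.map_charpolyRev]
  congr 1
  ext i j
  rw [LinearMap.toMatrix_apply, Module.Basis.baseChange_apply, LinearMap.baseChange_tmul,
    Module.Basis.baseChange_repr_tmul, Matrix.map_apply, LinearMap.toMatrix_apply, Algebra.smul_def, mul_one]

/-- invariance under conjugation. -/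
theorem charRev_conj {V W : Type*} [AddCommGroup V] [Module Λ V] [AddCommGroup W] [Module Λ W] [FiniteDimensional Λ V]
    (e : V ≃ₗ[Λ] W) (φ : V →ₗ[Λ] V) : FinFr.charRev (e.conj φ) = FinFr.charRev φ := by
  classical
  let b := Module.finBasis Λ V
  rw [Groth.Agent.Sga4h.H925.DetInv.charRev_eq b, Groth.Agent.Sga4h.H925.DetInv.charRev_eq (b.map e)]
  congr 1
  ext i j
  rw [LinearMap.toMatrix_apply, LinearMap.toMatrix_apply, Module.Basis.map_apply, Module.Basis.map_repr,
    LinearEquiv.conj_apply_apply, LinearEquiv.symm_apply_apply, LinearEquiv.trans_apply, LinearEquiv.symm_apply_apply]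

end Alg

section Gal

variable {k : Type u} [Field k] {K : Type u} [Field K] [Algebra k K]
variable {X₀ : Scheme.{u}} (a : X₀ ⟶ Spec (CommRingCat.of k)) [Fact FinFr.PullExact.{u}]
variable {Λ Λ₂ : Type} [Field Λ] [Field Λ₂] [Algebra Λ Λ₂]

/-- `det(1 - Tσ)` under extension of coefficients. -/
theorem charRev_galLin_ext {L : EtLam.Sheaf Λ X₀} {L₂ : EtLam.Sheaf Λ₂ X₀} {s : L.carrier ⟶ L₂.carrier}
    (h : Groth.Agent.Sga4h.H912.CoeffSheaf.IsExtSh L L₂ s) (σ : K ≃ₐ[k] K) (n : ℕ)
    (hfin : Finite (EtCoh.H (FinFr.ext K a) (EtLam.pullback (FinFr.extπ K a) L).carrier n)) :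
    FinFr.charRev (FinFr.galLin a σ L₂ n) = (FinFr.charRev (FinFr.galLin a σ L n)).map (algebraMap Λ Λ₂) := by
  obtain ⟨e, he⟩ := Groth.Agent.Sga4h.H912.CoeffFrob.exists_equiv_galLin a h σ n
  have : FiniteDimensional Λ (EtCoh.H (FinFr.ext K a) (EtLam.pullback (FinFr.extπ K a) L).carrier n) :=
    Module.Finite.of_finite
  rw [← he, charRev_conj, charRev_baseChange]

/-- the constant sheaf. -/
theorem charRev_galLin_const [Module.Finite Λ Λ₂] (σ : K ≃ₐ[k] K) (n : ℕ)
    (hfin : Finite (EtCoh.H (FinFr.ext K a) (EtLam.pullback (FinFr.extπ K a) (FinFr.constLam Λ X₀)).carrier n)) :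
    FinFr.charRev (FinFr.galLin a σ (FinFr.constLam Λ₂ X₀) n) =
      (FinFr.charRev (FinFr.galLin a σ (FinFr.constLam Λ X₀) n)).map (algebraMap Λ Λ₂) :=
  charRev_galLin_ext a (ConstExt.isExtSh_const X₀) σ n hfin

end Gal

end Groth.Agent.Sga4h.H911.CharRevExt
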