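import Groth.Agent.Sga4h.H912.CoeffFrob
import Groth.Agent.Sga4h.H911.CardLift

/-!
The constant sheaf `Λ₂` is the coefficient extension of the constant sheaf `Λ` for a finite free `Λ → Λ₂`.
-/

set_option autoImplicit false

universe u

open CategoryTheory CategoryTheory.Limits AlgebraicGeometry Opposite

namespace Groth.Agent.Sga4h.H911.ConstExt

open Groth.Agent.Sga4h.H912.CoeffExt Groth.Agent.Sga4h.H912.CoeffSheaf
open Groth.Agent.Sga4h.H911.CardLift (up up_apply)

variable {Λ Λ₂ : Type} [CommRing Λ] [CommRing Λ₂] [Algebra Λ Λ₂]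

theorem isExt_up [Nontrivial Λ] [Module.Finite Λ Λ₂] [Module.Free Λ Λ₂] :
    IsExt (C := AddCommGrpCat.{u + 1}) (A := AddCommGrpCat.of (ULift.{u + 1} Λ)) (A₂ := AddCommGrpCat.of (ULift.{u + 1} Λ₂))
      (fun r : Λ => AddCommGrpCat.ofHom (DistribSMul.toAddMonoidHom (ULift.{u + 1} Λ) r))
      (fun r : Λ₂ => AddCommGrpCat.ofHom (DistribSMul.toAddMonoidHom (ULift.{u + 1} Λ₂) r))
      (up (algebraMap Λ Λ₂).toAddMonoidHom) := by
  classical
  refine ⟨fun r => ?_, ?_⟩
  · ext x
    change algebraMap Λ Λ₂ (r * x.down) = algebraMap Λ Λ₂ r * algebraMap Λ Λ₂ x.down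
    rw [map_mul]
  · let b := Module.finBasis Λ Λ₂
    refine ⟨_, b, fun i => up ((Finsupp.lapply (R := Λ) i).comp b.repr.toLinearMap).toAddMonoidHom, fun i j => ?_, ?_⟩
    · ext x
      change b.repr (b i * algebraMap Λ Λ₂ x.down) j = _
      rw [mul_comm, ← Algebra.smul_def, map_smul, Module.Basis.repr_self, Finsupp.smul_apply, Finsupp.single_apply]
      split_ifs with h
      · rw [smul_eq_mul, mul_one]; rfl
      · rw [smul_zero]; rfl
    · ext x
      have h1 : ∀ (t : Finset (Fin (Module.finrank Λ Λ₂))) (f : Fin (Module.finrank Λ Λ₂) →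
          (AddCommGrpCat.of (ULift.{u + 1} Λ₂) ⟶ AddCommGrpCat.of (ULift.{u + 1} Λ₂))),
          (((∑ i ∈ t, f i : AddCommGrpCat.of (ULift.{u + 1} Λ₂) ⟶ AddCommGrpCat.of (ULift.{u + 1} Λ₂)).hom x).down : Λ₂) =
            ∑ i ∈ t, ((f i).hom x).down := by
        intro t f
        induction t using Finset.induction_on with
        | empty => rfl
        | insert a s ha ih =>
          rw [Finset.sum_insert ha, Finset.sum_insert ha, ← ih]
          rfl
      change ((∑ i, _ : AddCommGrpCat.of (ULift.{u + 1} Λ₂) ⟶ AddCommGrpCat.of (ULift.{u + 1} Λ₂)).hom x).down = x.down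
      rw [h1]
      conv_rhs => rw [← b.sum_repr x.down]
      refine Finset.sum_congr rfl fun i _ => ?_
      rw [Algebra.smul_def, mul_comm]
      rfl

theorem isExtSh_const [Nontrivial Λ] [Module.Finite Λ Λ₂] [Module.Free Λ Λ₂] (Y : Scheme.{u}) :
    IsExtSh (FinFr.constLam Λ Y) (FinFr.constLam Λ₂ Y)
      ((constantSheaf Y.smallEtaleTopology AddCommGrpCat.{u + 1}).map (up (algebraMap Λ Λ₂).toAddMonoidHom)) := by
  exact IsExt.map isExt_up (constantSheaf Y.smallEtaleTopology AddCommGrpCat.{u + 1})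

end Groth.Agent.Sga4h.H911.ConstExt
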