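import Groth.Agent.Sga5.H858.GeomFrob
import Groth.Agent.Etrest.HpullConst

/-!
Endomorphisms of a connected scheme act trivially on `H^0(X, M)`; the Galois action on `H^0(X_K, M)` is trivial for `X_K`
connected.
-/

set_option autoImplicit false

universe u

open CategoryTheory CategoryTheory.Limits AlgebraicGeometry Opposite Abelian
open scoped Groth.Agent.Etcore.EtInst
open Groth.Agent.Etcore.EtInst Groth.Agent.Etcore.HpullCalc Groth.Agent.Etcore.HC Groth.Agent.Etcore.PullCoh
open Groth.Agent.Etrest.HpullConst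

namespace Groth.Agent.Sga4h.H911.ConstZero

attribute [local instance] Groth.Agent.S0101.result

theorem HC_zero (X : Scheme.{u}) [ConnectedSpace X] (M : Type) [AddCommGroup M] (f : X ⟶ X)
    (x : HH X (EtCoh.const X M) 0) : HC M f 0 x = x := by
  obtain ⟨φ, rfl⟩ := (Ext.mk₀_bijective (EtCoh.const X ℤ) (EtCoh.const X M)).2 x
  have hc : ConnectedSpace (EtCoh.top X).left := ‹ConnectedSpace X›
  have h1 := (isIso_unit_iff X (ULift.{u + 1} M) (EtCore.topIsTerminal X)).2 (bijective_const _)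
  obtain ⟨ψ, rfl⟩ := (constU_map_bijective X (AddCommGrpCat.of (ULift.{u + 1} M)) (AddCommGrpCat.of (ULift.{u + 1} ℤ))
    (EtCore.topIsTerminal X) h1).2 φ
  rw [HC_apply, hp_apply, HHmap_apply, Ext.mapExactFunctor_mk₀, Ext.mk₀_comp_mk₀, Ext.mk₀_comp_mk₀]
  congr 1
  have h2 := (EtCore.pullConstIso f).hom.naturality ψ
  rw [Category.assoc]
  refine (congrArg ((EtCore.pullConst f ℤ).inv ≫ ·) h2).trans ?_
  exact Iso.inv_hom_id_assoc _ _

variable {k K : Type u} [Field k] [Field K] [Algebra k K] {X₀ : Scheme.{u}} (a : X₀ ⟶ Spec (CommRingCat.of k))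

/-- The Galois action on `H^0(X_K, M)`, `X_K` connected. -/
theorem hpVia_zero [ConnectedSpace ↥(FinFr.ext K a)] (σ : K ≃ₐ[k] K) (M : Type) [AddCommGroup M]
    (x : HH (FinFr.ext K a) ((EtCoh.pull (FinFr.extπ K a)).obj (EtCoh.const X₀ M)) 0) :
    hpVia (FinFr.galAct a σ) (FinFr.extπ K a) (FinFr.extπ K a) (FinFr.galAct_fst a σ) (EtCoh.const X₀ M) 0 x = x := by
  have h := Groth.Agent.Sga5.H858.GeomFrob.pullConst_hpVia a σ M 0 x
  rw [HC_zero] at h
  exact (HHmap_bijective (EtCore.pullConst (FinFr.extπ K a) M).hom 0).1 h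

end Groth.Agent.Sga4h.H911.ConstZero
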