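import Mathlib.LinearAlgebra.Matrix.Charpoly.Coeff
import Mathlib.RingTheory.PowerSeries.Derivative

/-!
Logarithmic derivative of `det (1 - T M)` over an arbitrary commutative ring:
`d/dT det (1 - T M) = - det (1 - T M) * ∑ Tr (M ^ (n+1)) T ^ n` in `R⟦T⟧`.
-/

set_option autoImplicit false

open Matrix Polynomial

namespace Groth.Agent.Sga4h.H911.NewtonDet

variable {R : Type*} [CommRing R] {n : Type*} [Fintype n] [DecidableEq n]

/-- derivative at a point `t` such that `1 - t M` is invertible. -/
theorem eval_derivative_charpolyRev (M N : Matrix n n R) (t : R) (h : (1 - t • M) * N = 1) :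
    (derivative M.charpolyRev).eval t = - (M.charpolyRev.eval t * (N * M).trace) := by
  have e1 : M.charpolyRev.eval t = (1 - t • M).det := by
    rw [charpolyRev, ← coe_evalRingHom, RingHom.map_det]
    congr 1
    ext i j
    simp only [RingHom.mapMatrix_apply, Matrix.map_apply, Matrix.sub_apply, Matrix.smul_apply, smul_eq_mul,
      coe_evalRingHom, eval_sub, eval_mul, eval_X, eval_C, Matrix.one_apply]
    split_ifs <;> simp
  have e2 : M.charpolyRev.comp (X + C t) =
      C ((1 - t • M).det) * det (1 + (X : R[X]) • (-(N * M)).map C) := by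
    have h1 : M.charpolyRev.comp (X + C t) = det ((1 : Matrix n n R[X]) - (X + C t) • M.map C) := by
      rw [charpolyRev, ← Polynomial.coe_compRingHom_apply, RingHom.map_det]
      congr 1
      refine Matrix.ext fun i j => ?_
      simp only [RingHom.mapMatrix_apply, Matrix.map_apply, Matrix.sub_apply, Matrix.smul_apply, smul_eq_mul,
        coe_compRingHom_apply, sub_comp, mul_comp, X_comp, C_comp, Matrix.one_apply]
      split_ifs <;> simp
    have h2 : (1 : Matrix n n R[X]) - (X + C t) • M.map C =
        (1 - t • M).map C * (1 + (X : R[X]) • (-(N * M)).map C) := by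
      have h3 : (1 - t • M).map (C : R →+* R[X]) * (-(N * M)).map (C : R →+* R[X]) = - M.map C := by
        rw [← Matrix.map_mul, Matrix.mul_neg, ← Matrix.mul_assoc, h, Matrix.one_mul]
        ext i j; simp
      rw [Matrix.mul_add, Matrix.mul_one, Matrix.mul_smul, h3]
      refine Matrix.ext fun i j => ?_
      simp only [Matrix.map_apply, Matrix.sub_apply, Matrix.add_apply, Matrix.neg_apply, Matrix.smul_apply, smul_eq_mul,
        Matrix.one_apply]
      split_ifs <;> simp <;> ring
    rw [h1, h2, det_mul]
    congr 1
    exact (RingHom.map_det (C : R →+* R[X]) (1 - t • M)).symm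
  have e3 : (derivative M.charpolyRev).eval t = (derivative (M.charpolyRev.comp (X + C t))).eval 0 := by
    rw [derivative_comp]
    simp
  rw [e3, e2, derivative_C_mul, eval_C_mul, derivative_det_one_add_X_smul, e1, trace_neg, mul_neg]

/-- `∑ M ^ k T ^ k` as a matrix of power series. -/
noncomputable def geom (M : Matrix n n R) : Matrix n n (PowerSeries R) :=
  Matrix.of fun i j => PowerSeries.mk fun k => (M ^ k) i j

theorem one_sub_mul_geom (M : Matrix n n R) :
    (1 - (PowerSeries.X : PowerSeries R) • M.map PowerSeries.C) * geom M = 1 := by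
  rw [Matrix.sub_mul, Matrix.one_mul, Matrix.smul_mul, sub_eq_iff_eq_add]
  ext i j k
  rw [Matrix.add_apply, map_add, Matrix.smul_apply, Matrix.mul_apply]
  simp only [geom, Matrix.of_apply, PowerSeries.coeff_mk, smul_eq_mul, Matrix.map_apply]
  rcases k with _ | k
  · rw [PowerSeries.coeff_zero_X_mul, pow_zero, add_zero, Matrix.one_apply, Matrix.one_apply]
    split_ifs <;> simp
  · rw [PowerSeries.coeff_succ_X_mul, map_sum]
    simp only [PowerSeries.coeff_C_mul, PowerSeries.coeff_mk]
    rw [pow_succ', Matrix.mul_apply, Matrix.one_apply]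
    split_ifs <;> simp [PowerSeries.coeff_one]

theorem trace_geom_mul (M : Matrix n n R) :
    (geom M * M.map PowerSeries.C).trace = PowerSeries.mk fun k => (M ^ (k + 1)).trace := by
  ext k
  simp only [Matrix.trace, Matrix.diag_apply, map_sum, PowerSeries.coeff_mk, Matrix.mul_apply,
    Matrix.map_apply, geom, Matrix.of_apply, PowerSeries.coeff_mul_C, pow_succ]

theorem map_charpolyRev {S : Type*} [CommRing S] (f : R →+* S) (M : Matrix n n R) :
    (M.map f).charpolyRev = M.charpolyRev.map f := by
  rw [charpolyRev, charpolyRev, ← Polynomial.coe_mapRingHom, RingHom.map_det]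
  congr 1
  ext i j
  simp [Matrix.one_apply, apply_ite]

/-- the logarithmic derivative of `det (1 - T M)`. -/
theorem derivative_charpolyRev (M : Matrix n n R) :
    ((derivative M.charpolyRev : R[X]) : PowerSeries R) =
      - ((M.charpolyRev : PowerSeries R) * PowerSeries.mk fun k => (M ^ (k + 1)).trace) := by
  have h := eval_derivative_charpolyRev (M.map PowerSeries.C) (geom M) (PowerSeries.X : PowerSeries R)
    (one_sub_mul_geom M)
  rw [trace_geom_mul, map_charpolyRev, Polynomial.derivative_map] at h
  have key : ∀ p : R[X], (p.map (PowerSeries.C : R →+* PowerSeries R)).eval PowerSeries.X = (p : PowerSeries R) := by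
    intro p
    rw [Polynomial.eval_map]
    induction p using Polynomial.induction_on' with
    | add p q hp hq => rw [Polynomial.eval₂_add, hp, hq, Polynomial.coe_add]
    | monomial k a => 
      rw [Polynomial.eval₂_monomial, Polynomial.coe_monomial, PowerSeries.X_pow_eq, ← PowerSeries.monomial_zero_eq_C_apply,
        PowerSeries.monomial_mul_monomial, zero_add, mul_one]
  rw [key, key] at h
  exact h

end Groth.Agent.Sga4h.H911.NewtonDet
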