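import Groth.Prelude.Def_FinFrL
import Mathlib.FieldTheory.Finite.GaloisField
import Mathlib.FieldTheory.PrimitiveElement
import Mathlib.AlgebraicGeometry.ResidueField
import Mathlib.NumberTheory.ArithmeticFunction.Misc

/-!
Counting points of a scheme over a finite field `k`: the number of geometric points fixed by the `n`-th power of the
arithmetic Frobenius is `∑_{d ∣ n} d * B_d`, `B_d` the number of closed points of degree `d`.
-/

set_option autoImplicit false

universe u

open CategoryTheory CategoryTheory.Limits AlgebraicGeometry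

namespace Groth.Agent.Sga4h.H911.PtCount

section Field

variable (k E K : Type*) [Field k] [Fintype k] [Field E] [Algebra k E] [Field K] [Algebra k K] [Algebra.IsAlgebraic k K]

/-- embeddings fixed by the `n`-th power of Frobenius. -/
def FixEmb (n : ℕ) : Type _ := { φ : E →ₐ[k] K // ∀ x, (φ x) ^ (Fintype.card k ^ n) = φ x }

theorem pow_eq_of_fix {n : ℕ} (φ : FixEmb k E K n) (x : E) : x ^ (Fintype.card k ^ n) = x := by
  apply φ.1.toRingHom.injective
  rw [map_pow]
  exact φ.2 x

theorem finite_of_fix {n : ℕ} (hn : 0 < n) (φ : FixEmb k E K n) : Finite E := by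
  classical
  have hq : 1 < Fintype.card k ^ n := Nat.one_lt_pow hn.ne' Fintype.one_lt_card
  let f : Polynomial E := Polynomial.X ^ (Fintype.card k ^ n) - Polynomial.X
  have hf : f ≠ 0 := FiniteField.X_pow_card_sub_X_ne_zero E hq
  have h : ∀ x : E, x ∈ f.roots.toFinset := by
    intro x
    rw [Multiset.mem_toFinset, Polynomial.mem_roots hf, Polynomial.IsRoot, Polynomial.eval_sub, Polynomial.eval_pow,
      Polynomial.eval_X, sub_eq_zero]
    exact pow_eq_of_fix k E K φ x
  exact Finite.of_injective (fun x : E => (⟨x, h x⟩ : f.roots.toFinset)) fun x y hxy => congrArg Subtype.val hxy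

theorem dvd_of_fix {n : ℕ} (hn : 0 < n) (φ : FixEmb k E K n) : Module.finrank k E ∣ n := by
  have : Finite E := finite_of_fix k E K hn φ
  rw [← FiniteField.orderOf_frobeniusAlgEquivOfAlgebraic (K := k) (L := E), orderOf_dvd_iff_pow_eq_one]
  ext x
  rw [AlgEquiv.coe_pow, FiniteField.coe_frobeniusAlgEquivOfAlgebraic_iterate]
  exact pow_eq_of_fix k E K φ x

theorem fix_of_dvd {n : ℕ} (hn : 0 < n) (h : Module.finrank k E ∣ n) (φ : E →ₐ[k] K) (x : E) :
    (φ x) ^ (Fintype.card k ^ n) = φ x := by
  have hpos : 0 < Module.finrank k E := Nat.pos_of_dvd_of_pos h hn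
  have : FiniteDimensional k E := Module.finite_of_finrank_pos hpos
  have : Finite E := Module.finite_of_finite k
  rw [← FiniteField.orderOf_frobeniusAlgEquivOfAlgebraic (K := k) (L := E), orderOf_dvd_iff_pow_eq_one] at h
  have h1 := congrArg (fun e : E ≃ₐ[k] E => e x) h
  simp only [AlgEquiv.coe_pow, FiniteField.coe_frobeniusAlgEquivOfAlgebraic_iterate, AlgEquiv.one_apply] at h1
  rw [← map_pow, h1]

theorem natCard_fixEmb [IsAlgClosed K] {n : ℕ} (hn : 0 < n) :
    Nat.card (FixEmb k E K n) = if Module.finrank k E ∣ n then Module.finrank k E else 0 := by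
  split_ifs with h
  · have hpos : 0 < Module.finrank k E := Nat.pos_of_dvd_of_pos h hn
    have : FiniteDimensional k E := Module.finite_of_finrank_pos hpos
    have e : FixEmb k E K n ≃ (E →ₐ[k] K) :=
      ⟨fun φ => φ.1, fun φ => ⟨φ, fix_of_dvd k E K hn h φ⟩, fun _ => rfl, fun _ => rfl⟩
    rw [Nat.card_congr e, Nat.card_eq_fintype_card, AlgHom.card]
  · have : IsEmpty (FixEmb k E K n) := ⟨fun φ => h (dvd_of_fix k E K hn φ)⟩
    exact Nat.card_of_isEmpty

end Field

variable (k K : Type u) [Field k] [Fintype k] [Field K] [Algebra k K] [Algebra.IsAlgebraic k K]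

/-- geometric points (with values in `K`) of the `k`-scheme `Y` fixed by the `n`-th power of the arithmetic Frobenius. -/
def FixPts {Y : Scheme.{u}} (a : Y ⟶ Spec (CommRingCat.of k)) (n : ℕ) : Type u :=
  { y : Spec (CommRingCat.of K) ⟶ Y // y ≫ a = FinFr.specι k K ∧
    Spec.map (CommRingCat.ofHom (((FinFr.arith k K) ^ n : K ≃ₐ[k] K) : K →+* K)) ≫ y = y }

variable {Y : Scheme.{u}} (a : Y ⟶ Spec (CommRingCat.of k))

omit [Fintype k] in
/-- the morphism of rings `k ⟶ κ(x)`. -/
noncomputable def resHom (x : Y) : CommRingCat.of k ⟶ Y.residueField x := Spec.preimage (Y.fromSpecResidueField x ≫ a)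

omit [Fintype k] in
theorem specMap_resHom (x : Y) :
    Spec.map (resHom k a x) = Y.fromSpecResidueField x ≫ a := Spec.map_preimage _

omit [Fintype k] in
theorem resHom_hom (x : Y) (c : k) : (resHom k a x).hom c = FinFr.resAlgHom a x c := rfl

/-- the algebra structure on residue fields. -/
noncomputable abbrev resAlg (x : Y) : Algebra k (Y.residueField x : Type u) := (FinFr.resAlgHom a x).toAlgebra

theorem arith_pow_apply (n : ℕ) (z : K) : ((FinFr.arith k K) ^ n : K ≃ₐ[k] K) z = z ^ (Fintype.card k ^ n) := by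
  rw [AlgEquiv.coe_pow, FiniteField.coe_frobeniusAlgEquivOfAlgebraic_iterate]

/-- the fixed point attached to a point and a fixed embedding of its residue field. -/
noncomputable def toPt (n : ℕ) (s : Σ x : Y, letI := resAlg k a x; FixEmb k (Y.residueField x : Type u) K n) :
    FixPts k K a n :=
  letI := resAlg k a s.1
  ⟨Spec.map (CommRingCat.ofHom (s.2.1 : (Y.residueField s.1 : Type u) →+* K)) ≫ Y.fromSpecResidueField s.1, by
    constructor
    · rw [Category.assoc, ← specMap_resHom, ← Spec.map_comp, FinFr.specι]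
      congr 1
      ext c
      exact s.2.1.commutes c
    · rw [← Category.assoc, ← Spec.map_comp]
      congr 2
      ext z
      change ((FinFr.arith k K) ^ n : K ≃ₐ[k] K) (s.2.1 z) = s.2.1 z
      rw [arith_pow_apply]
      exact s.2.2 z⟩

theorem toPt_bijective (n : ℕ) : Function.Bijective (toPt k K a n) := by
  constructor
  · rintro ⟨x, φ⟩ ⟨x', φ'⟩ h
    have h1 := congrArg Subtype.val h
    have h2 : (Scheme.SpecToEquivOfField K Y).symm ⟨x, CommRingCat.ofHom (letI := resAlg k a x; (φ.1 : (Y.residueField x : Type u) →+* K))⟩ =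
      (Scheme.SpecToEquivOfField K Y).symm ⟨x', CommRingCat.ofHom (letI := resAlg k a x'; (φ'.1 : (Y.residueField x' : Type u) →+* K))⟩ := h1
    have h3 := (Scheme.SpecToEquivOfField K Y).symm.injective h2
    obtain rfl : x = x' := congrArg Sigma.fst h3
    have h4 := eq_of_heq (Sigma.mk.inj h3).2
    have h5 : φ = φ' := by
      letI := resAlg k a x
      apply Subtype.ext
      apply AlgHom.ext
      intro z
      exact congrArg (fun f => f.hom z) h4
    rw [h5]
  · intro y
    let s := Scheme.SpecToEquivOfField K Y y.1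
    letI := resAlg k a s.1
    have h : Spec.map s.2 ≫ Y.fromSpecResidueField s.1 = y.1 := (Scheme.SpecToEquivOfField K Y).symm_apply_apply y.1
    let φ : FixEmb k (Y.residueField s.1 : Type u) K n := ⟨{ s.2.hom with
      commutes' := fun c => by
        have h1 : Spec.map s.2 ≫ Spec.map (resHom k a s.1) = FinFr.specι k K := by
          rw [specMap_resHom, ← Category.assoc, h, y.2.1]
        rw [FinFr.specι, ← Spec.map_comp] at h1
        have h2 := congrArg (fun f => f.hom c) (Spec.map_injective h1)
        exact h2 },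
      fun z => by
        have h0 := y.2.2
        have h1 : Spec.map (CommRingCat.ofHom (((FinFr.arith k K) ^ n : K ≃ₐ[k] K) : K →+* K)) ≫ Spec.map s.2 = Spec.map s.2 := by
          rw [← cancel_mono (Y.fromSpecResidueField s.1), Category.assoc, h, h0]
        rw [← Spec.map_comp] at h1
        have h2 := congrArg (fun f => f.hom z) (Spec.map_injective h1)
        rw [← arith_pow_apply k K n]
        exact h2⟩
    exact ⟨⟨s.1, φ⟩, Subtype.ext h⟩

/-- The closed points of degree `d`. -/
abbrev ClosedDeg (d : ℕ) : Type u := { x : FinFr.ClosedPt Y // FinFr.ptDeg a x.1 = d }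

/-- The number of closed points of degree `d`. -/
noncomputable def nClosed (d : ℕ) : ℕ := Nat.card (ClosedDeg k a d)

theorem isClosed_of_deg_pos [LocallyOfFiniteType a] (x : Y) (h : 0 < FinFr.ptDeg a x) : IsClosed ({x} : Set Y) := by
  have : JacobsonSpace Y := LocallyOfFiniteType.jacobsonSpace a
  rw [isClosed_singleton_iff_locallyOfFiniteType]
  have h1 : LocallyOfFiniteType (Y.fromSpecResidueField x ≫ a) := by
    rw [← specMap_resHom, HasRingHomProperty.Spec_iff (P := @LocallyOfFiniteType)]
    letI := resAlg k a x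
    have : FiniteDimensional k (Y.residueField x : Type u) := Module.finite_of_finrank_pos h
    change (algebraMap k (Y.residueField x)).FiniteType
    rw [RingHom.finiteType_algebraMap]
    infer_instance
  exact locallyOfFiniteType_of_comp _ a

/-- all pairs (point, fixed embedding). -/
abbrev Pairs (n : ℕ) : Type u := Σ x : Y, letI := resAlg k a x; FixEmb k (Y.residueField x : Type u) K n

/-- regrouping by degree. -/
noncomputable def regroup [LocallyOfFiniteType a] {n : ℕ} (hn : 0 < n) :
    Pairs k K a n ≃ Σ d : n.divisors, Σ x : ClosedDeg k a d.1,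
      letI := resAlg k a x.1.1; FixEmb k (Y.residueField x.1.1 : Type u) K n where
  toFun s :=
    letI := resAlg k a s.1
    have h : FinFr.ptDeg a s.1 ∣ n := dvd_of_fix k (Y.residueField s.1 : Type u) K hn s.2
    ⟨⟨FinFr.ptDeg a s.1, Nat.mem_divisors.2 ⟨h, hn.ne'⟩⟩,
      ⟨⟨s.1, isClosed_of_deg_pos k a s.1 (Nat.pos_of_dvd_of_pos h hn)⟩, rfl⟩, s.2⟩
  invFun s := ⟨s.2.1.1.1, s.2.2⟩
  left_inv s := rfl
  right_inv s := by
    obtain ⟨⟨d, hd⟩, ⟨⟨x, hx⟩, hxd⟩, φ⟩ := s
    revert φ
    change FinFr.ptDeg a x = d at hxd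
    subst hxd
    intro φ
    rfl

theorem natCard_fixPts_eq (n : ℕ) : Nat.card (FixPts k K a n) = Nat.card (Pairs k K a n) :=
  (Nat.card_congr (Equiv.ofBijective _ (toPt_bijective k K a n))).symm

variable [IsAlgClosed K]

theorem finite_closedDeg [LocallyOfFiniteType a] (h : ∀ n, 0 < n → Finite (FixPts k K a n)) {d : ℕ} (hd : 0 < d) :
    Finite (ClosedDeg k a d) := by
  have := h d hd
  have hf : Finite (Pairs k K a d) := Finite.of_injective _ (toPt_bijective k K a d).1
  have hne : ∀ x : ClosedDeg k a d, letI := resAlg k a x.1.1; Nonempty (FixEmb k (Y.residueField x.1.1 : Type u) K d) := by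
    intro x
    letI := resAlg k a x.1.1
    have h1 := natCard_fixEmb k (Y.residueField x.1.1 : Type u) K hd
    have h2 : Module.finrank k (Y.residueField x.1.1 : Type u) = d := x.2
    rw [h2, if_pos dvd_rfl] at h1
    by_contra hcon
    rw [not_nonempty_iff] at hcon
    rw [Nat.card_of_isEmpty] at h1
    omega
  refine Finite.of_injective (fun x : ClosedDeg k a d => (⟨x.1.1, (hne x).some⟩ : Pairs k K a d)) ?_
  intro x y hxy
  have := congrArg Sigma.fst hxy
  exact Subtype.ext (Subtype.ext this)

/-- counting points. -/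
theorem natCard_fixPts [LocallyOfFiniteType a] (h : ∀ n, 0 < n → Finite (FixPts k K a n)) {n : ℕ} (hn : 0 < n) :
    Nat.card (FixPts k K a n) = ∑ d ∈ n.divisors, d * nClosed k a d := by
  have hf : Finite (Pairs k K a n) := by
    have := h n hn
    exact Finite.of_injective _ (toPt_bijective k K a n).1
  rw [natCard_fixPts_eq, Nat.card_congr (regroup k K a hn)]
  have hfin : ∀ d : n.divisors, Finite (ClosedDeg k a d.1) := fun d =>
    finite_closedDeg k K a h (Nat.pos_of_mem_divisors d.2)
  have hfin2 : ∀ (d : n.divisors) (x : ClosedDeg k a d.1),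
      Nat.card (letI := resAlg k a x.1.1; FixEmb k (Y.residueField x.1.1 : Type u) K n) = d.1 := by
    intro d x
    letI := resAlg k a x.1.1
    have h1 := natCard_fixEmb k (Y.residueField x.1.1 : Type u) K hn
    have h2 : Module.finrank k (Y.residueField x.1.1 : Type u) = d.1 := x.2
    rw [h2, if_pos (Nat.dvd_of_mem_divisors d.2)] at h1
    exact h1
  have hfin3 : ∀ (d : n.divisors) (x : ClosedDeg k a d.1),
      Finite (letI := resAlg k a x.1.1; FixEmb k (Y.residueField x.1.1 : Type u) K n) := fun d x =>
    Nat.finite_of_card_ne_zero (by rw [hfin2 d x]; exact (Nat.pos_of_mem_divisors d.2).ne')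
  rw [Nat.card_sigma, ← Finset.sum_coe_sort n.divisors]
  refine Finset.sum_congr rfl fun d _ => ?_
  letI := Fintype.ofFinite (ClosedDeg k a d.1)
  rw [Nat.card_sigma, Finset.sum_congr rfl fun x _ => hfin2 d x, Finset.sum_const, Finset.card_univ, smul_eq_mul,
    mul_comm, nClosed, Nat.card_eq_fintype_card]

end Groth.Agent.Sga4h.H911.PtCount
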