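import Mathlib.LinearAlgebra.Dimension.Free
import Mathlib.LinearAlgebra.FreeModule.Finite.Basic
import Mathlib.LinearAlgebra.Basis.Basic
import Mathlib.RingTheory.Nakayama
import Mathlib.Algebra.Field.ZMod
import Mathlib.Data.ZMod.QuotientRing
import Mathlib.LinearAlgebra.FreeModule.PID
import Mathlib.Algebra.Exact.Basic

/-!
Freeness over `ℤ/ℓ^(N+1)` by counting.

Data: `ZMod (ℓ^(N+1))`-modules `V N`, additive maps `red N : V N → V 0` (reduction) with kernel `ℓ V N` and surjective, and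
`|V N| = |V 0|^(N+1)` finite. Then every `V N` is finite free, and a lift of a basis of `V 0` is a basis.
-/

set_option autoImplicit false

universe v

namespace Groth.Agent.Sga4h.H911.ZModFree

variable {ℓ : ℕ} [hℓ : Fact ℓ.Prime]

/-- Nakayama for a nilpotent integer. -/
theorem span_eq_top {R V : Type*} [CommRing R] [AddCommGroup V] [Module R V] (c : R) (N : ℕ) (hc : c ^ N = 0)
    (S : Submodule R V) (h : ∀ v : V, ∃ s ∈ S, ∃ w : V, v = s + c • w) : S = ⊤ := by
  rw [eq_top_iff]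
  have key : ∀ m (v : V), ∃ s ∈ S, ∃ w : V, v = s + c ^ m • w := by
    intro m
    induction m with
    | zero => intro v; exact ⟨0, S.zero_mem, v, by simp⟩
    | succ m ih =>
      intro v
      obtain ⟨s, hs, w, rfl⟩ := ih v
      obtain ⟨s', hs', w', rfl⟩ := h w
      exact ⟨s + c ^ m • s', S.add_mem hs (S.smul_mem _ hs'), w', by rw [smul_add, pow_succ, mul_smul]; abel⟩
  intro v _
  obtain ⟨s, hs, w, rfl⟩ := key N v
  rw [hc, zero_smul, add_zero]
  exact hs

/-- the reduction `ZMod (ℓ ^ (N + 1)) → ZMod ℓ`. -/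
noncomputable abbrev red (ℓ N : ℕ) : ZMod (ℓ ^ (N + 1)) →+* ZMod ℓ :=
  ZMod.castHom (dvd_pow_self ℓ (Nat.succ_ne_zero N)) (ZMod ℓ)

theorem natCard_zmod_pow (ℓ N : ℕ) : Nat.card (ZMod (ℓ ^ (N + 1))) = ℓ ^ (N + 1) := Nat.card_zmod _

/-- Lifts of a basis of the reduction form a basis, by counting. -/
theorem exists_basis {V W : Type v} [AddCommGroup V] [AddCommGroup W] (N : ℕ) [Module (ZMod (ℓ ^ (N + 1))) V]
    [Module (ZMod ℓ) W] [Finite W] (ρ : V →+ W) (hρ : ∀ (r : ZMod (ℓ ^ (N + 1))) (v : V), ρ (r • v) = red ℓ N r • ρ v)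
    (hker : ∀ v, ρ v = 0 → ∃ w, v = (ℓ : ZMod (ℓ ^ (N + 1))) • w)
    (hcard : Nat.card V = Nat.card W ^ (N + 1)) {ι : Type} [Fintype ι] (b : Module.Basis ι (ZMod ℓ) W)
    (v : ι → V) (hv : ∀ i, ρ (v i) = b i) :
    ∃ b' : Module.Basis ι (ZMod (ℓ ^ (N + 1))) V, ∀ i, b' i = v i := by
  classical
  have hne : NeZero (ℓ ^ (N + 1)) := ⟨pow_ne_zero _ hℓ.out.ne_zero⟩
  have hnil : ((ℓ : ZMod (ℓ ^ (N + 1)))) ^ (N + 1) = 0 := by
    rw [← Nat.cast_pow]; exact ZMod.natCast_self _
  have hredsurj : Function.Surjective (red ℓ N) := ZMod.ringHom_surjective _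
  have htop : Submodule.span (ZMod (ℓ ^ (N + 1))) (Set.range v) = ⊤ := by
    refine span_eq_top (ℓ : ZMod (ℓ ^ (N + 1))) (N + 1) hnil _ fun x => ?_
    -- write `ρ x` in the basis
    choose c hc using fun i => hredsurj (b.repr (ρ x) i)
    have h1 : ρ (x - ∑ i, c i • v i) = 0 := by
      rw [map_sub, map_sum, sub_eq_zero]
      conv_lhs => rw [← b.sum_repr (ρ x)]
      refine Finset.sum_congr rfl fun i _ => ?_
      rw [hρ, hc, hv]
    obtain ⟨w, hw⟩ := hker _ h1
    refine ⟨∑ i, c i • v i, Submodule.sum_mem _ fun i _ => Submodule.smul_mem _ _ (Submodule.subset_span ⟨i, rfl⟩), w, ?_⟩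
    rw [← hw]; abel
  -- the surjection from the free module is bijective by counting
  let f : (ι → ZMod (ℓ ^ (N + 1))) →ₗ[ZMod (ℓ ^ (N + 1))] V := Fintype.linearCombination (ZMod (ℓ ^ (N + 1))) v
  have hf : Function.Surjective f := by
    rw [← LinearMap.range_eq_top, Fintype.range_linearCombination, htop]
  have hW : Nat.card W = ℓ ^ Fintype.card ι := by
    rw [Nat.card_congr b.equivFun.toEquiv, Nat.card_fun, Nat.card_zmod, Nat.card_eq_fintype_card]
  have hcardV : Nat.card V = Nat.card (ι → ZMod (ℓ ^ (N + 1))) := by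
    rw [hcard, hW, Nat.card_fun, Nat.card_zmod, Nat.card_eq_fintype_card, ← pow_mul, ← pow_mul, mul_comm]
  have hVfin : Finite V := by
    refine Nat.finite_of_card_ne_zero ?_
    rw [hcard]
    exact pow_ne_zero _ Nat.card_pos.ne'
  have hbij : Function.Bijective f := by
    have : Fintype V := Fintype.ofFinite V
    rw [Fintype.bijective_iff_surjective_and_card]
    refine ⟨hf, ?_⟩
    rw [← Nat.card_eq_fintype_card, ← Nat.card_eq_fintype_card, hcardV]
  let e : V ≃ₗ[ZMod (ℓ ^ (N + 1))] (ι → ZMod (ℓ ^ (N + 1))) := (LinearEquiv.ofBijective f hbij).symm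
  refine ⟨Module.Basis.ofEquivFun e, fun i => ?_⟩
  rw [Module.Basis.coe_ofEquivFun]
  change f (Pi.single i 1) = v i
  rw [Fintype.linearCombination_apply]
  simp [Pi.single_apply]

end Groth.Agent.Sga4h.H911.ZModFree
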