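import Groth.Agent.Sga4h.H911.CardDef
import Groth.Agent.Sga4h.H911.CohLift
import Groth.Agent.Sga4h.H911.FinAux
import Groth.Agent.Sga4h.H911.ClosedProd

/-!
The zeta function of a scheme over a finite field modulo `ℓ`, from trace formulas modulo all powers of `ℓ` and the orders
of the cohomology groups.
-/

set_option autoImplicit false

universe u

open CategoryTheory CategoryTheory.Limits AlgebraicGeometry Opposite Polynomial

namespace Groth.Agent.Sga4h.H911.ZetaCurve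

open Groth.Agent.Sga4h.H911.CardLift Groth.Agent.Sga4h.H911.PtCount Groth.Agent.Sga4h.H911.ClosedProd
open Groth.Agent.Sga4h.H911.CohLift Groth.Agent.Sga4h.H911.FinAux

section Main

variable (k K : Type u) [Field k] [Fintype k] [Field K] [Algebra k K] [Algebra.IsAlgebraic k K] [IsAlgClosed K]
variable [Fact FinFr.PullExact.{u}] {Y : Scheme.{u}} (a : Y ⟶ Spec (CommRingCat.of k)) [LocallyOfFiniteType a]
  [QuasiCompact a] (ℓ : ℕ) [hℓ : Fact ℓ.Prime]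

/-- orders of the cohomology groups `H^i(Y_K, ℤ/ℓ^m)`. -/
def CardHyp : Prop :=
  ∃ b : ℕ → ℕ, (∀ i, 2 < i → b i = 0) ∧ ∀ m i, Nat.card (EtCoh.H (FinFr.ext K a) (EtCoh.const _ (ZMod (ℓ ^ m))) i) = (ℓ ^ m) ^ b i

/-- trace formulas modulo all powers of `ℓ` for all powers of Frobenius. -/
def TrHyp : Prop :=
  ∀ N r, 0 < r → ∑ᶠ i : ℕ, (-1 : ZMod (ℓ ^ (N + 1))) ^ i * LinearMap.trace (ZMod (ℓ ^ (N + 1))) _
    ((FinFr.frob (K := K) a (FinFr.constLam (ZMod (ℓ ^ (N + 1))) Y) i) ^ r) = ((Nat.card (FixPts k K a r) : ℕ) : ZMod (ℓ ^ (N + 1)))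

/-- `H^i(Y_K, ℤ/ℓ^(N+1))`. -/
noncomputable abbrev VH (N i : ℕ) : Type (u + 1) :=
  EtCoh.H (FinFr.ext K a) (EtLam.pullback (FinFr.extπ K a) (FinFr.constLam (ZMod (ℓ ^ (N + 1))) Y)).carrier i

/-- `H^i(Y_K, ℤ/ℓ)`. -/
noncomputable abbrev WH (i : ℕ) : Type (u + 1) :=
  EtCoh.H (FinFr.ext K a) (EtLam.pullback (FinFr.extπ K a) (FinFr.constLam (ZMod ℓ) Y)).carrier i

/-- the reduction `H^i(Y_K, ℤ/ℓ^(N+1)) → H^i(Y_K, ℤ/ℓ)`. -/
noncomputable abbrev rhoH (N i : ℕ) : VH k K a ℓ N i →+ WH k K a ℓ i :=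
  rho ((EtCoh.pull (FinFr.extπ K a)).map (redSh ℓ Y N)) i

omit [Fintype k] [Algebra.IsAlgebraic k K] [IsAlgClosed K] [Fact FinFr.PullExact.{u}] [LocallyOfFiniteType a]
  [QuasiCompact a] in
theorem isLift_rhoH (b : ℕ → ℕ)
    (hcard : ∀ m i, Nat.card (EtCoh.H (FinFr.ext K a) (EtCoh.const _ (ZMod (ℓ ^ m))) i) = (ℓ ^ m) ^ b i) (N i : ℕ) :
    ZetaMod.IsLift (ℓ := ℓ) (V := VH k K a ℓ N i) (W := WH k K a ℓ i) N (rhoH k K a ℓ N i) :=
  isLift (FinFr.extπ K a) ℓ i (b i) (fun m => hcard m i) N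

omit [Fintype k] [Algebra.IsAlgebraic k K] [IsAlgClosed K] [Fact FinFr.PullExact.{u}] [LocallyOfFiniteType a]
  [QuasiCompact a] hℓ in
theorem card_VH (b : ℕ → ℕ) (hb : ∀ i, 2 < i → b i = 0)
    (hcard : ∀ m i, Nat.card (EtCoh.H (FinFr.ext K a) (EtCoh.const _ (ZMod (ℓ ^ m))) i) = (ℓ ^ m) ^ b i) (N i : ℕ)
    (hi : 2 < i) : Nat.card (VH k K a ℓ N i) = 1 :=
  (card_PhiF (FinFr.extπ K a) _ i).trans ((hcard (N + 1) i).trans (by rw [hb i hi, pow_zero]))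

omit [IsAlgClosed K] [LocallyOfFiniteType a] [QuasiCompact a] hℓ in
theorem rhoH_frob (N i : ℕ) (v : VH k K a ℓ N i) :
    rhoH k K a ℓ N i (FinFr.frob (K := K) a (FinFr.constLam (ZMod (ℓ ^ (N + 1))) Y) i v) =
      FinFr.frob (K := K) a (FinFr.constLam (ZMod ℓ) Y) i (rhoH k K a ℓ N i v) :=
  galLin_map a (FinFr.arith k K).symm _ _ (redSh ℓ Y N) i v

omit [IsAlgClosed K] [LocallyOfFiniteType a] [QuasiCompact a] hℓ in
theorem trace_three (N n : ℕ) (hsub : ∀ N i, 2 < i → Subsingleton (VH k K a ℓ N i)) :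
    ∑ i ∈ ({0, 2} : Finset ℕ), LinearMap.trace (ZMod (ℓ ^ (N + 1))) (VH k K a ℓ N i)
        ((FinFr.frob (K := K) a (FinFr.constLam (ZMod (ℓ ^ (N + 1))) Y) i) ^ n) -
      ∑ i ∈ ({1} : Finset ℕ), LinearMap.trace (ZMod (ℓ ^ (N + 1))) (VH k K a ℓ N i)
        ((FinFr.frob (K := K) a (FinFr.constLam (ZMod (ℓ ^ (N + 1))) Y) i) ^ n) =
    ∑ᶠ i : ℕ, (-1 : ZMod (ℓ ^ (N + 1))) ^ i * LinearMap.trace (ZMod (ℓ ^ (N + 1))) _
      ((FinFr.frob (K := K) a (FinFr.constLam (ZMod (ℓ ^ (N + 1))) Y) i) ^ n) := by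
  rw [finsum_eq_three _ (fun i hi => by have := hsub N i hi; rw [trace_of_subsingleton, mul_zero])]
  rw [Finset.sum_pair (by norm_num), Finset.sum_singleton]
  ring

/-- **Zeta function, coefficients `ℤ/ℓ`.** -/
theorem zeta_zmod (hcard : CardHyp k K a ℓ) (htr : TrHyp k K a ℓ) (N m : ℕ) (hm : m ≤ N) :
    ((∏ᶠ i : {i : ℕ // Odd i}, FinFr.charRev (FinFr.frob (K := K) a (FinFr.constLam (ZMod ℓ) Y) i.1)) *
        ∏ᶠ x : ClosedLE k a N, (1 - (X : (ZMod ℓ)[X]) ^ FinFr.ptDeg a x.1.1)).coeff m =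
      (∏ᶠ i : {i : ℕ // Even i}, FinFr.charRev (FinFr.frob (K := K) a (FinFr.constLam (ZMod ℓ) Y) i.1)).coeff m := by
  obtain ⟨b, hb, hcard⟩ := hcard
  have hsub : ∀ N i, 2 < i → Subsingleton (VH k K a ℓ N i) := fun N i hi =>
    (Nat.card_eq_one_iff_unique.1 (card_VH k K a ℓ b hb hcard N i hi)).1
  have hsub' : ∀ i, 2 < i → Subsingleton (WH k K a ℓ i) := by
    intro i hi
    have := hsub 0 i hi
    exact (isLift_rhoH k K a ℓ b hcard 0 i).surj.subsingleton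
  rw [finprod_closedLE k K a N (fun d => 1 - (X : (ZMod ℓ)[X]) ^ d),
    finprod_odd (fun i => FinFr.charRev (FinFr.frob (K := K) a (FinFr.constLam (ZMod ℓ) Y) i))
      (fun i hi => by have := hsub' i hi; exact charRev_of_subsingleton _),
    finprod_even (fun i => FinFr.charRev (FinFr.frob (K := K) a (FinFr.constLam (ZMod ℓ) Y) i))
      (fun i hi => by have := hsub' i hi; exact charRev_of_subsingleton _)]
  refine ZetaMod.main {0, 2} {1} (fun N i => VH k K a ℓ N i) (fun i => WH k K a ℓ i) (fun N i => rhoH k K a ℓ N i)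
    (fun N i _ => isLift_rhoH k K a ℓ b hcard N i)
    (fun N i => FinFr.frob (K := K) a (FinFr.constLam (ZMod (ℓ ^ (N + 1))) Y) i)
    (fun i => FinFr.frob (K := K) a (FinFr.constLam (ZMod ℓ) Y) i)
    (fun N i v => rhoH_frob k K a ℓ N i v) (nClosed k a) (fun N n hn => ?_) N m hm
  rw [trace_three k K a ℓ N n hsub, htr N n hn,
    natCard_fixPts k K a (fun n hn => FixFin.finite_fixPts k K a hn) hn]

end Main

end Groth.Agent.Sga4h.H911.ZetaCurve
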