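import Groth.Agent.Sga4h.H911.ZetaLam
import Groth.Agent.Sga4h.H911.CardComp
import Groth.Agent.Sga4h.H915.CurveCase

/-!
The L-function identity and the vanishing of the defect of the determinants for the constant sheaf on a smooth proper curve over a
finite field (possibly disconnected), from the Lefschetz formula with coefficients `ℤ/ℓ^(N+1)`.
-/

set_option autoImplicit false

universe u

open CategoryTheory CategoryTheory.Limits AlgebraicGeometry Opposite Polynomial

namespace Groth.Agent.Sga4h.H911.ZetaFinal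

open Groth.Agent.Sga4h.H911.ZetaCurve Groth.Agent.Sga4h.H925.Defs

variable (k K : Type u) [Field k] [Fintype k] [Field K] [Algebra k K] [Algebra.IsAlgebraic k K] [IsAlgClosed K]
variable [Fact FinFr.PullExact.{u}] {Y : Scheme.{u}} (a : Y ⟶ Spec (CommRingCat.of k)) [IsProper a]
  [SmoothOfRelativeDimension 1 a] (ℓ : ℕ) [hℓ : Fact ℓ.Prime]

omit [Fintype k] [Algebra.IsAlgebraic k K] [Fact FinFr.PullExact.{u}] in
/-- orders of the cohomology groups. -/
theorem cardHyp (hk : (ℓ : k) ≠ 0) : CardHyp k K a ℓ := by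
  have hst : MorphismProperty.IsStableUnderBaseChange (@SmoothOfRelativeDimension 1) :=
    smoothOfRelativeDimension_isStableUnderBaseChange 1
  have hsm : SmoothOfRelativeDimension 1 (FinFr.extStr K a) :=
    MorphismProperty.pullback_snd (P := @SmoothOfRelativeDimension 1) _ _ inferInstance
  have hpr : IsProper (FinFr.extStr K a) := by
    delta FinFr.extStr
    infer_instance
  have hK : (ℓ : K) ≠ 0 := by
    rw [← map_natCast (algebraMap k K)]
    exact fun h => hk ((map_eq_zero _).1 h)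
  obtain ⟨b, hb, h⟩ := CardComp.hasCard K (Set.range fun m => ℓ ^ m) (by
    rintro _ ⟨m, rfl⟩
    refine ⟨Nat.one_le_pow _ _ hℓ.out.pos, ?_⟩
    rw [Nat.cast_pow]
    exact pow_ne_zero _ hK) (FinFr.ext K a) (FinFr.extStr K a)
  exact ⟨b, hb, fun m i => h _ ⟨m, rfl⟩ i⟩

omit hℓ [IsAlgClosed K] in
/-- the trace formulas. -/
theorem trHyp (H : ∀ N, H915.CurveCase.LefFor K (ZMod (ℓ ^ (N + 1)))) : TrHyp k K a ℓ :=
  fun N r hr => H915.CurveCase.trace_formula_pow a (ZMod (ℓ ^ (N + 1))) (H N) r hr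

/-- **The L-function identity for the constant sheaf on a smooth proper curve.** -/
theorem LFn_const (hk : (ℓ : k) ≠ 0) (H : ∀ N, H915.CurveCase.LefFor K (ZMod (ℓ ^ (N + 1)))) (Λ : Type) [Field Λ] [Finite Λ]
    [CharP Λ ℓ] (n N : ℕ) (hn : n ≤ N) : DefectOf.LFn K a (FinFr.constLam Λ Y) n N :=
  let _ : Algebra (ZMod ℓ) Λ := ZMod.algebra Λ ℓ
  ZetaLam.LFn_const k K a ℓ (cardHyp k K a ℓ hk) (trHyp k K a ℓ H) Λ n N hn

/-- the same in the form `H925.Defs.LF`. -/
theorem LF_const (hk : (ℓ : k) ≠ 0) (H : ∀ N, H915.CurveCase.LefFor K (ZMod (ℓ ^ (N + 1)))) (Λ : Type) [Field Λ] [Finite Λ]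
    [CharP Λ ℓ] (N : ℕ) : LF K a (FinFr.constLam Λ Y) N :=
  LFn_const k K a ℓ hk H Λ N N le_rfl

/-- **The vanishing of the defect of the determinants for the constant sheaf on a smooth proper curve.** -/
theorem defect_const (hk : (ℓ : k) ≠ 0) (H : ∀ N, H915.CurveCase.LefFor K (ZMod (ℓ ^ (N + 1)))) (Λ : Type) [Field Λ] [Finite Λ]
    [CharP Λ ℓ] (n N : ℕ) (hn : n ≤ N)
    (hloc : ∀ x : Y, IsClosed ({x} : Set Y) →
      FinFr.charRev (frobK K (Y.fromSpecResidueField x ≫ a) (EtLam.pullback (Y.fromSpecResidueField x) (FinFr.constLam Λ Y)) 0) =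
        FinFr.locFactor a x (FinFr.constLam Λ Y)) :
    defect K (detInvN Λ n) a N (FinFr.constLam Λ Y) = 0 :=
  let _ : Algebra (ZMod ℓ) Λ := ZMod.algebra Λ ℓ
  ZetaLam.defect_const k K a ℓ (cardHyp k K a ℓ hk) (trHyp k K a ℓ H) Λ n N hn hloc

end Groth.Agent.Sga4h.H911.ZetaFinal
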