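import Groth.Agent.Sga4h.H911.DefectOf
import Groth.Agent.Sga4h.H911.ZetaCurve
import Groth.Agent.Sga4h.H911.LocConst
import Groth.Agent.Sga4h.H911.CharRevExt
import Mathlib.RingTheory.Jacobson.Ring

/-!
The L-function identity for constant sheaves `Λ`, `Λ` a finite field of characteristic `ℓ`, from the orders of the groups
`H^i(Y_K, ℤ/ℓ^m)` and the trace formulas for the powers of Frobenius with coefficients `ℤ/ℓ^N`.
-/

set_option autoImplicit false

universe u

open CategoryTheory CategoryTheory.Limits AlgebraicGeometry Opposite Polynomial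

namespace Groth.Agent.Sga4h.H911.ZetaLam

open Groth.Agent.Sga4h.H911.ZetaCurve Groth.Agent.Sga4h.H911.ClosedProd Groth.Agent.Sga4h.H911.FinAux
open Groth.Agent.Sga4h.H925.Defs

section Alg

/-- mapping the coefficients of an identity between products of polynomials. -/
theorem coeff_map_identity {F Λ : Type} [CommRing F] [CommRing Λ] (g : F →+* Λ) {ι : Type*} [Finite ι] (f : ι → F[X])
    (E₀ E₁ O : F[X]) (n : ℕ) (h : ∀ m ≤ n, (O * ∏ᶠ i, f i).coeff m = (E₀ * E₁).coeff m) (m : ℕ) (hm : m ≤ n) :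
    (O.map g * ∏ᶠ i, (f i).map g).coeff m = (E₀.map g * E₁.map g).coeff m := by
  have := Fintype.ofFinite ι
  rw [finprod_eq_prod_of_fintype] at h ⊢
  rw [← Polynomial.map_prod, ← Polynomial.map_mul, ← Polynomial.map_mul, Polynomial.coeff_map, Polynomial.coeff_map,
    h m hm]

end Alg

variable (k K : Type u) [Field k] [Fintype k] [Field K] [Algebra k K] [Algebra.IsAlgebraic k K]
variable [Fact FinFr.PullExact.{u}] {Y : Scheme.{u}} (a : Y ⟶ Spec (CommRingCat.of k))

omit [Fact FinFr.PullExact.{u}] in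
/-- the residue field of a closed point is finite. -/
theorem finite_residueField [LocallyOfFiniteType a] (x : Y) (hx : IsClosed ({x} : Set Y)) :
    Finite (Y.residueField x : Type u) := by
  have h := ptDeg_pos k a ⟨x, hx⟩
  let _ : Algebra k (Y.residueField x : Type u) := (FinFr.resAlgHom a x).toAlgebra
  have : Module.Finite k (Y.residueField x : Type u) := Module.finite_of_finrank_pos h
  exact Module.finite_of_finite k

section Fin

variable (ℓ : ℕ) [hℓ : Fact ℓ.Prime]

omit [Fintype k] [Algebra.IsAlgebraic k K] [Fact FinFr.PullExact.{u}] in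
/-- `H^i(Y_K, ℤ/ℓ)` is finite, and zero for `i > 2`. -/
theorem finite_WH (hcard : CardHyp k K a ℓ) (i : ℕ) :
    Finite (WH k K a ℓ i) ∧ (2 < i → Subsingleton (WH k K a ℓ i)) := by
  obtain ⟨b, hb, hcard⟩ := hcard
  have h0 : Nat.card (VH k K a ℓ 0 i) = (ℓ ^ (0 + 1)) ^ b i := (H911.CohLift.card_PhiF (FinFr.extπ K a) _ i).trans (hcard (0 + 1) i)
  have hs := (isLift_rhoH k K a ℓ b hcard 0 i).surj
  have hne : Nat.card (VH k K a ℓ 0 i) ≠ 0 := by
    rw [h0]
    exact pow_ne_zero _ (pow_ne_zero _ hℓ.out.ne_zero)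
  have h1 : Finite (VH k K a ℓ 0 i) := Nat.finite_of_card_ne_zero hne
  refine ⟨Finite.of_surjective _ hs, fun hi => ?_⟩
  have := (Nat.card_eq_one_iff_unique.1 (card_VH k K a ℓ b hb hcard 0 i hi)).1
  exact hs.subsingleton

omit [Fintype k] [Algebra.IsAlgebraic k K] in
/-- `H^i(Y_K, Λ) = 0` for `i > 2`. -/
theorem subsingleton_HK (hcard : CardHyp k K a ℓ) (Λ : Type) [Field Λ] [Finite Λ] [Algebra (ZMod ℓ) Λ] (i : ℕ) (hi : 2 < i) :
    Subsingleton (HK K a (FinFr.constLam Λ Y) i) := by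
  have h1 := (finite_WH k K a ℓ hcard i).2 hi
  have : Module.Finite (ZMod ℓ) Λ := Module.Finite.of_finite
  obtain ⟨e, -⟩ := Groth.Agent.Sga4h.H912.CoeffFrob.exists_equiv_galLin a
    (ConstExt.isExtSh_const (Λ := ZMod ℓ) (Λ₂ := Λ) Y) (AlgEquiv.refl : K ≃ₐ[k] K) i
  have h2 : Subsingleton (TensorProduct (ZMod ℓ) Λ (WH k K a ℓ i)) := inferInstance
  exact e.symm.injective.subsingleton

/-- the reversed characteristic polynomials of Frobenius. -/
theorem charRev_frobK (hcard : CardHyp k K a ℓ) (Λ : Type) [Field Λ] [Finite Λ] [Algebra (ZMod ℓ) Λ] (i : ℕ) :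
    FinFr.charRev (frobK K a (FinFr.constLam Λ Y) i) =
      (FinFr.charRev (FinFr.frob (K := K) a (FinFr.constLam (ZMod ℓ) Y) i)).map (algebraMap (ZMod ℓ) Λ) := by
  have : Module.Finite (ZMod ℓ) Λ := Module.Finite.of_finite
  exact CharRevExt.charRev_galLin_const a (FinFr.arith k K).symm i (finite_WH k K a ℓ hcard i).1

end Fin

/-- **The L-function identity for the constant sheaf.** -/
theorem LFn_const [IsAlgClosed K] [LocallyOfFiniteType a] [QuasiCompact a] (ℓ : ℕ) [Fact ℓ.Prime] (hcard : CardHyp k K a ℓ)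
    (htr : TrHyp k K a ℓ) (Λ : Type) [Field Λ] [Finite Λ] [Algebra (ZMod ℓ) Λ] (n N : ℕ) (hn : n ≤ N) :
    DefectOf.LFn K a (FinFr.constLam Λ Y) n N := by
  have hfin : Finite (ClosedLE k a N) := finite_closedLE k K a N
  have hz := zeta_zmod k K a ℓ hcard htr N
  have hc := charRev_frobK k K a ℓ hcard Λ
  have hloc : ∀ x : ClosedLE k a N, FinFr.locFactor a x.1.1 (FinFr.constLam Λ Y) =
      (1 - (X : (ZMod ℓ)[X]) ^ FinFr.ptDeg a x.1.1).map (algebraMap (ZMod ℓ) Λ) := by
    intro x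
    have := finite_residueField k a x.1.1 x.1.2
    rw [LocConst.locFactor_const, Polynomial.map_sub, Polynomial.map_one, Polynomial.map_pow, Polynomial.map_X]
  have h2 : ∀ i, 2 < i → FinFr.charRev (FinFr.frob (K := K) a (FinFr.constLam (ZMod ℓ) Y) i) = 1 := fun i hi => by
    have := (finite_WH k K a ℓ hcard i).2 hi
    exact charRev_of_subsingleton _
  have h3 : ∀ i, 2 < i → FinFr.charRev (frobK K a (FinFr.constLam Λ Y) i) = 1 := fun i hi => by
    rw [hc, h2 i hi, Polynomial.map_one]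
  intro m hm
  rw [finprod_odd (fun i => FinFr.charRev (frobK K a (FinFr.constLam Λ Y) i)) h3,
    finprod_even (fun i => FinFr.charRev (frobK K a (FinFr.constLam Λ Y) i)) h3, Finset.prod_singleton,
    Finset.prod_pair (by norm_num), hc, hc, hc, finprod_congr hloc]
  rw [finprod_odd (fun i => FinFr.charRev (FinFr.frob (K := K) a (FinFr.constLam (ZMod ℓ) Y) i)) h2,
    finprod_even (fun i => FinFr.charRev (FinFr.frob (K := K) a (FinFr.constLam (ZMod ℓ) Y) i)) h2, Finset.prod_singleton,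
    Finset.prod_pair (by norm_num)] at hz
  exact coeff_map_identity (algebraMap (ZMod ℓ) Λ) (fun x : ClosedLE k a N => 1 - (X : (ZMod ℓ)[X]) ^ FinFr.ptDeg a x.1.1)
    _ _ _ N hz m (hm.trans hn)

/-- **The vanishing of the defect of the determinants for the constant sheaf.** -/
theorem defect_const [IsAlgClosed K] [LocallyOfFiniteType a] [QuasiCompact a] (ℓ : ℕ) [Fact ℓ.Prime] (hcard : CardHyp k K a ℓ)
    (htr : TrHyp k K a ℓ) (Λ : Type) [Field Λ] [Finite Λ] [Algebra (ZMod ℓ) Λ] (n N : ℕ) (hn : n ≤ N)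
    (hloc : ∀ x : Y, IsClosed ({x} : Set Y) →
      FinFr.charRev (frobK K (Y.fromSpecResidueField x ≫ a) (EtLam.pullback (Y.fromSpecResidueField x) (FinFr.constLam Λ Y)) 0) =
        FinFr.locFactor a x (FinFr.constLam Λ Y)) :
    defect K (detInvN Λ n) a N (FinFr.constLam Λ Y) = 0 :=
  DefectOf.defect_of_LFn K a (FinFr.constLam Λ Y) n N 3 (fun i hi => subsingleton_HK k K a ℓ hcard Λ i hi)
    (finite_closedLE k K a N) hloc (LFn_const k K a ℓ hcard htr Λ n N hn)

end Groth.Agent.Sga4h.H911.ZetaLam
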