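import Groth.Agent.Sga4h.H911.ZetaTrace
import Groth.Agent.Sga4h.H911.ZModFree
import Groth.Agent.Sga4h.H925.DetInv

/-!
Module version of `ZetaTrace.main`: families of finite `ℤ/ℓ^(N+1)`-modules with endomorphisms which reduce to the given
`ℤ/ℓ`-modules.
-/

set_option autoImplicit false

universe v

namespace Groth.Agent.Sga4h.H911.ZetaMod

open Polynomial

variable {ℓ : ℕ} [hℓ : Fact ℓ.Prime]

open Groth.Agent.Sga4h.H911.ZModFree (red)

/-- `V` (over `ℤ/ℓ^(N+1)`) is a "flat lift" of the finite `ℤ/ℓ`-module `W`. -/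
structure IsLift {V W : Type v} [AddCommGroup V] [AddCommGroup W] (N : ℕ) [Module (ZMod (ℓ ^ (N + 1))) V]
    [Module (ZMod ℓ) W] (ρ : V →+ W) : Prop where
  fin : Finite W
  surj : Function.Surjective ρ
  ker : ∀ v, ρ v = 0 → ∃ w : V, v = (ℓ : ZMod (ℓ ^ (N + 1))) • w
  card : Nat.card V = Nat.card W ^ (N + 1)

variable {V W : Type v} [AddCommGroup V] [AddCommGroup W] {N : ℕ} [Module (ZMod (ℓ ^ (N + 1))) V]
    [Module (ZMod ℓ) W] {ρ : V →+ W}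

/-- An additive map between `ZMod`-modules is semilinear. -/
theorem smul_of_addHom {m n : ℕ} (h : n ∣ m) {V W : Type*} [AddCommGroup V] [AddCommGroup W] [Module (ZMod m) V]
    [Module (ZMod n) W] (ρ : V →+ W) (r : ZMod m) (v : V) : ρ (r • v) = ZMod.castHom h (ZMod n) r • ρ v := by
  obtain ⟨z, rfl⟩ := ZMod.intCast_surjective r
  rw [map_intCast, Int.cast_smul_eq_zsmul, Int.cast_smul_eq_zsmul, map_zsmul]

/-- Lifting data: matrices. -/
theorem IsLift.exists_matrix (h : IsLift (ℓ := ℓ) N ρ) (ψ : V →ₗ[ZMod (ℓ ^ (N + 1))] V) (φ : W →ₗ[ZMod ℓ] W)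
    (hc : ∀ v, ρ (ψ v) = φ (ρ v)) :
    ∃ (n : ℕ) (b : Module.Basis (Fin n) (ZMod (ℓ ^ (N + 1))) V) (c : Module.Basis (Fin n) (ZMod ℓ) W),
      LinearMap.toMatrix c c φ = (LinearMap.toMatrix b b ψ).map (red ℓ N) := by
  classical
  have := h.fin
  let c := Module.finBasis (ZMod ℓ) W
  choose v hv using fun i => h.surj (c i)
  have hρ : ∀ (r : ZMod (ℓ ^ (N + 1))) (v : V), ρ (r • v) = red ℓ N r • ρ v := fun r v => smul_of_addHom _ ρ r v
  obtain ⟨b, hb⟩ := ZModFree.exists_basis N ρ hρ h.ker h.card c v hv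
  refine ⟨_, b, c, ?_⟩
  have hrepr : ∀ x i, c.repr (ρ x) i = red ℓ N (b.repr x i) := by
    intro x i
    conv_lhs => rw [← b.sum_repr x]
    rw [map_sum]
    simp only [hρ, hb, hv]
    rw [map_sum]
    simp [Finsupp.finsetSum_apply, Finsupp.single_apply]
  ext i j
  rw [Matrix.map_apply, LinearMap.toMatrix_apply, LinearMap.toMatrix_apply, ← hrepr, hc, hb, hv]

theorem IsLift.free (h : IsLift (ℓ := ℓ) N ρ) : Module.Free (ZMod (ℓ ^ (N + 1))) V := by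
  obtain ⟨n, b, c, -⟩ := h.exists_matrix (LinearMap.id) (LinearMap.id) (fun v => rfl)
  exact Module.Free.of_basis b

theorem IsLift.finite (h : IsLift (ℓ := ℓ) N ρ) : Module.Finite (ZMod (ℓ ^ (N + 1))) V := by
  obtain ⟨n, b, c, -⟩ := h.exists_matrix (LinearMap.id) (LinearMap.id) (fun v => rfl)
  exact Module.Finite.of_basis b

theorem IsLift.charRev_map (h : IsLift (ℓ := ℓ) N ρ) (ψ : V →ₗ[ZMod (ℓ ^ (N + 1))] V) (φ : W →ₗ[ZMod ℓ] W)
    (hc : ∀ v, ρ (ψ v) = φ (ρ v)) : (FinFr.charRev ψ).map (red ℓ N) = FinFr.charRev φ := by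
  classical
  obtain ⟨n, b, c, hbc⟩ := h.exists_matrix ψ φ hc
  rw [Groth.Agent.Sga4h.H925.DetInv.charRev_eq b, Groth.Agent.Sga4h.H925.DetInv.charRev_eq c, hbc,
    NewtonDet.map_charpolyRev]

/-- **Zeta function modulo `ℓ` from traces modulo all powers of `ℓ`**, module version. -/
theorem main {ι : Type*} (E O : Finset ι) (V : ℕ → ι → Type v) (W : ι → Type v)
    [∀ N i, AddCommGroup (V N i)] [∀ i, AddCommGroup (W i)] [∀ N i, Module (ZMod (ℓ ^ (N + 1))) (V N i)]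
    [∀ i, Module (ZMod ℓ) (W i)] (ρ : ∀ N i, V N i →+ W i) (hρ : ∀ N i, i ∈ E ∨ i ∈ O → IsLift (ℓ := ℓ) N (ρ N i))
    (ψ : ∀ N i, V N i →ₗ[ZMod (ℓ ^ (N + 1))] V N i) (φ : ∀ i, W i →ₗ[ZMod ℓ] W i)
    (hc : ∀ N i v, ρ N i (ψ N i v) = φ i (ρ N i v)) (B : ℕ → ℕ)
    (htr : ∀ N n, 0 < n → ∑ i ∈ E, LinearMap.trace (ZMod (ℓ ^ (N + 1))) (V N i) ((ψ N i) ^ n) -
        ∑ i ∈ O, LinearMap.trace (ZMod (ℓ ^ (N + 1))) (V N i) ((ψ N i) ^ n) =
      ((∑ d ∈ n.divisors, d * B d : ℕ) : ZMod (ℓ ^ (N + 1)))) (m r : ℕ) (hr : r ≤ m) :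
    ((∏ i ∈ O, FinFr.charRev (φ i)) * ∏ d ∈ Finset.Icc 1 m, (1 - (X : (ZMod ℓ)[X]) ^ d) ^ B d).coeff r =
      (∏ i ∈ E, FinFr.charRev (φ i)).coeff r := by
  classical
  have hex : ∀ N i, ∃ (n : ℕ) (M : Matrix (Fin n) (Fin n) (ZMod (ℓ ^ (N + 1)))), (i ∈ E ∨ i ∈ O) →
      M.charpolyRev.map (red ℓ N) = FinFr.charRev (φ i) ∧
      ∀ k, LinearMap.trace (ZMod (ℓ ^ (N + 1))) (V N i) ((ψ N i) ^ k) = (M ^ k).trace := by
    intro N i
    by_cases hi : i ∈ E ∨ i ∈ O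
    · obtain ⟨n, b, c, hbc⟩ := (hρ N i hi).exists_matrix (ψ N i) (φ i) (hc N i)
      refine ⟨n, LinearMap.toMatrix b b (ψ N i), fun _ => ⟨?_, fun k => ?_⟩⟩
      · rw [Groth.Agent.Sga4h.H925.DetInv.charRev_eq c, hbc, NewtonDet.map_charpolyRev]
      · rw [LinearMap.trace_eq_matrix_trace _ b, LinearMap.toMatrix_pow]
    · exact ⟨0, 0, fun h => absurd h hi⟩
  choose sz M hM using hex
  exact ZetaTrace.main ℓ E O (fun N i => Fin (sz N i)) M (fun i => FinFr.charRev (φ i))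
    (fun N i hi => (hM N i hi).1) B (fun N n hn => by
      rw [← htr N n hn]
      congr 1
      · exact Finset.sum_congr rfl fun i hi => ((hM N i (Or.inl hi)).2 n).symm
      · exact Finset.sum_congr rfl fun i hi => ((hM N i (Or.inr hi)).2 n).symm) m r hr

end Groth.Agent.Sga4h.H911.ZetaMod
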