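import Groth.Agent.Sga4h.H911.NewtonDet
import Mathlib.Algebra.Field.ZMod
import Mathlib.RingTheory.PowerSeries.Inverse
import Mathlib.NumberTheory.Padics.PadicVal.Basic

/-!
Zeta functions modulo `ℓ` from traces modulo all powers of `ℓ`: if for all `N`, `n ≥ 1`
`∑ ± Tr (M_{N,i} ^ n) = ∑_{d ∣ n} d B_d` in `ZMod (ℓ ^ N)` then
`∏_{odd} det (1 - T M_{1,i}) * ∏_{d ≤ m} (1 - T ^ d) ^ B_d = ∏_{even} det (1 - T M_{1,i})` modulo `T ^ (m + 1)`.
-/

set_option autoImplicit false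

open Matrix Polynomial

namespace Groth.Agent.Sga4h.H911.ZetaTrace

open PowerSeries in
/-- `f' = f g`. -/
def LD {R : Type*} [CommRing R] (f g : PowerSeries R) : Prop := d⁄dX R f = f * g

section LD

variable {R : Type*} [CommRing R]

theorem LD.mul {f₁ f₂ g₁ g₂ : PowerSeries R} (h₁ : LD f₁ g₁) (h₂ : LD f₂ g₂) : LD (f₁ * f₂) (g₁ + g₂) := by
  unfold LD at *
  rw [Derivation.leibniz, h₁, h₂]
  simp only [smul_eq_mul]
  ring

theorem LD.one : LD (1 : PowerSeries R) 0 := by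
  unfold LD
  rw [PowerSeries.derivative_one, mul_zero]

theorem LD.pow {f g : PowerSeries R} (h : LD f g) (b : ℕ) : LD (f ^ b) (b * g) := by
  induction b with
  | zero => simpa using LD.one
  | succ b ih =>
    rw [pow_succ]
    have := ih.mul h
    rwa [show ((b + 1 : ℕ) : PowerSeries R) * g = b * g + g by push_cast; ring]

theorem LD.prod {ι : Type*} (s : Finset ι) (f g : ι → PowerSeries R) (h : ∀ i ∈ s, LD (f i) (g i)) :
    LD (∏ i ∈ s, f i) (∑ i ∈ s, g i) := by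
  classical
  induction s using Finset.induction_on with
  | empty => simpa using LD.one
  | insert a s ha ih =>
    rw [Finset.prod_insert ha, Finset.sum_insert ha]
    exact (h a (Finset.mem_insert_self a s)).mul (ih fun i hi => h i (Finset.mem_insert_of_mem hi))

theorem LD.inv {f g f' : PowerSeries R} (h : LD f g) (hf : f * f' = 1) : LD f' (-g) := by
  unfold LD at *
  have h1 : (PowerSeries.derivative R) (f * f') = 0 := by rw [hf, PowerSeries.derivative_one]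
  rw [Derivation.leibniz, h] at h1
  simp only [smul_eq_mul] at h1
  have h2 : f' * (f * (PowerSeries.derivative R) f' + f' * (f * g)) = 0 := by rw [h1, mul_zero]
  have h3 : f' * (f * (PowerSeries.derivative R) f' + f' * (f * g)) =
    (f * f') * (PowerSeries.derivative R) f' + (f * f') * (f' * g) := by ring
  rw [h3, hf, one_mul, one_mul] at h2
  rw [mul_neg]
  exact eq_neg_of_add_eq_zero_left h2

/-- The logarithmic derivative of `1 - X ^ d`. -/
noncomputable def gd (R : Type*) [CommRing R] (d : ℕ) : PowerSeries R :=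
  PowerSeries.mk fun n => if d ∣ n + 1 then -(d : R) else 0

theorem LD.one_sub_X_pow (d : ℕ) (hd : 0 < d) : LD (1 - (PowerSeries.X : PowerSeries R) ^ d) (gd R d) := by
  unfold LD
  rw [map_sub, PowerSeries.derivative_one, PowerSeries.derivative_pow, PowerSeries.derivative_X, zero_sub, mul_one,
    sub_mul, one_mul]
  ext n
  rw [map_neg, map_sub, gd, PowerSeries.coeff_mk]
  have e1 : PowerSeries.coeff n ((d : PowerSeries R) * (PowerSeries.X : PowerSeries R) ^ (d - 1)) =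
      if n + 1 = d then (d : R) else 0 := by
    rw [← map_natCast (PowerSeries.C : R →+* PowerSeries R), PowerSeries.coeff_C_mul, PowerSeries.coeff_X_pow]
    by_cases h : n + 1 = d
    · rw [if_pos h, if_pos (by omega), mul_one]
    · rw [if_neg h, if_neg (by omega), mul_zero]
  rw [e1, PowerSeries.coeff_X_pow_mul']
  by_cases hn : d ≤ n
  · rw [if_pos hn, PowerSeries.coeff_mk, if_neg (by omega)]
    have h1 : n + 1 = (n - d + 1) + d := by omega
    have h2 : d ∣ n + 1 ↔ d ∣ n - d + 1 := by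
      conv_lhs => rw [h1]
      exact Nat.dvd_add_self_right
    simp only [h2]
    simp
  · rw [if_neg hn]
    by_cases h : n + 1 = d
    · rw [if_pos h, if_pos (by rw [h])]; simp
    · rw [if_neg h, if_neg (fun hdvd => h (le_antisymm (by omega) (Nat.le_of_dvd (by omega) hdvd)))]; simp

theorem LD.charpolyRev {n : Type*} [Fintype n] [DecidableEq n] (M : Matrix n n R) :
    LD (M.charpolyRev : PowerSeries R) (- PowerSeries.mk fun k => (M ^ (k + 1)).trace) := by
  unfold LD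
  rw [PowerSeries.derivative_coe, NewtonDet.derivative_charpolyRev, mul_neg]

/-- If `P`, `Q` have constant coefficient `1` and logarithmic derivatives agreeing up to degree `< m`, then
`n c_n = 0` for the coefficients `c_n`, `1 ≤ n ≤ m`, of `P / Q`. -/
theorem nsmul_coeff_eq_zero {P Q Q' gP gQ : PowerSeries R} (hP : LD P gP) (hQ : LD Q gQ) (hQQ : Q * Q' = 1) (m : ℕ)
    (h : ∀ n < m, PowerSeries.coeff n gP = PowerSeries.coeff n gQ) (n : ℕ) (hn : n < m) :
    ((n + 1 : ℕ) : R) * PowerSeries.coeff (n + 1) (P * Q') = 0 := by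
  have hU : LD (P * Q') (gP + -gQ) := hP.mul (hQ.inv hQQ)
  have h1 : PowerSeries.coeff n (PowerSeries.derivative R (P * Q')) = 0 := by
    rw [hU, PowerSeries.coeff_mul]
    apply Finset.sum_eq_zero
    intro x hx
    rw [Finset.mem_antidiagonal] at hx
    rw [map_add, map_neg, h x.2 (by omega), add_neg_cancel, mul_zero]
  rw [PowerSeries.coeff_derivative] at h1
  rw [mul_comm]
  exact_mod_cast h1

end LD

/-- cast `ZMod (ℓ ^ (N+1)) → ZMod ℓ`. -/
noncomputable def red (ℓ N : ℕ) : ZMod (ℓ ^ (N + 1)) →+* ZMod ℓ :=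
  ZMod.castHom (dvd_pow_self ℓ (Nat.succ_ne_zero N)) (ZMod ℓ)

theorem red_eq_zero (ℓ : ℕ) [hℓ : Fact ℓ.Prime] (n : ℕ) (hn : n ≠ 0) (N : ℕ) (hN : padicValNat ℓ n ≤ N)
    (c : ZMod (ℓ ^ (N + 1))) (hc : (n : ZMod (ℓ ^ (N + 1))) * c = 0) : red ℓ N c = 0 := by
  have : NeZero (ℓ ^ (N + 1)) := ⟨pow_ne_zero _ hℓ.out.ne_zero⟩
  have h1 : ((n * c.val : ℕ) : ZMod (ℓ ^ (N + 1))) = 0 := by
    rw [Nat.cast_mul, ZMod.natCast_zmod_val, hc]
  rw [ZMod.natCast_eq_zero_iff] at h1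
  have h2 : ℓ ∣ c.val := by
    by_contra hcon
    have hco : Nat.Coprime (ℓ ^ (N + 1)) c.val :=
      Nat.Coprime.pow_left _ ((Nat.Prime.coprime_iff_not_dvd hℓ.out).2 hcon)
    have h3 : ℓ ^ (N + 1) ∣ n := hco.dvd_of_dvd_mul_right h1
    have h4 : N + 1 ≤ padicValNat ℓ n := (padicValNat_dvd_iff_le hn).1 h3
    omega
  have h5 : red ℓ N c = ((c.val : ℕ) : ZMod ℓ) := by
    conv_lhs => rw [← ZMod.natCast_zmod_val c]
    rw [map_natCast]
  rw [h5, ZMod.natCast_eq_zero_iff]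
  exact h2

theorem isUnit_of_constantCoeff {R : Type*} [CommRing R] (Q : PowerSeries R) (h : PowerSeries.constantCoeff Q = 1) :
    ∃ Q', Q * Q' = 1 :=
  ⟨PowerSeries.invOfUnit Q 1, PowerSeries.mul_invOfUnit Q 1 (by simpa using h)⟩

/-- zeta function modulo `ℓ` from traces modulo all powers of `ℓ`. -/
theorem main (ℓ : ℕ) [hℓ : Fact ℓ.Prime] {ι : Type*} (E O : Finset ι) (sz : ℕ → ι → Type) [∀ N i, Fintype (sz N i)]
    [∀ N i, DecidableEq (sz N i)] (M : ∀ N i, Matrix (sz N i) (sz N i) (ZMod (ℓ ^ (N + 1))))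
    (D : ι → (ZMod ℓ)[X]) (hD : ∀ N i, i ∈ E ∨ i ∈ O → (M N i).charpolyRev.map (red ℓ N) = D i)
    (B : ℕ → ℕ)
    (htr : ∀ N n, 0 < n → ∑ i ∈ E, ((M N i) ^ n).trace - ∑ i ∈ O, ((M N i) ^ n).trace =
      ((∑ d ∈ n.divisors, d * B d : ℕ) : ZMod (ℓ ^ (N + 1)))) (m r : ℕ) (hr : r ≤ m) :
    ((∏ i ∈ O, D i) * ∏ d ∈ Finset.Icc 1 m, (1 - (X : (ZMod ℓ)[X]) ^ d) ^ B d).coeff r = (∏ i ∈ E, D i).coeff r := by
  classical
  -- the two sides over `ZMod (ℓ ^ (N+1))`
  let P : ∀ N, (ZMod (ℓ ^ (N + 1)))[X] := fun N =>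
    (∏ i ∈ O, (M N i).charpolyRev) * ∏ d ∈ Finset.Icc 1 m, (1 - (X : (ZMod (ℓ ^ (N + 1)))[X]) ^ d) ^ B d
  let Q : ∀ N, (ZMod (ℓ ^ (N + 1)))[X] := fun N => ∏ i ∈ E, (M N i).charpolyRev
  have hc1 : ∀ N i, PowerSeries.constantCoeff ((M N i).charpolyRev : PowerSeries (ZMod (ℓ ^ (N + 1)))) = 1 := by
    intro N i
    rw [Polynomial.constantCoeff_coe, ← Matrix.eval_charpolyRev (M := M N i), Polynomial.coeff_zero_eq_eval_zero]
  have hQ1 : ∀ N, PowerSeries.constantCoeff (Q N : PowerSeries (ZMod (ℓ ^ (N + 1)))) = 1 := by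
    intro N
    change PowerSeries.constantCoeff ((∏ i ∈ E, (M N i).charpolyRev : (ZMod (ℓ ^ (N + 1)))[X]) : PowerSeries (ZMod (ℓ ^ (N + 1)))) = 1
    rw [← Polynomial.coeToPowerSeries.ringHom_apply, map_prod, map_prod]
    exact Finset.prod_eq_one fun i _ => hc1 N i
  have hPld : ∀ N, LD (P N : PowerSeries (ZMod (ℓ ^ (N + 1))))
      ((∑ i ∈ O, - PowerSeries.mk fun k => ((M N i) ^ (k + 1)).trace) +
        ∑ d ∈ Finset.Icc 1 m, (B d : PowerSeries (ZMod (ℓ ^ (N + 1)))) * gd _ d) := by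
    intro N
    have h1 : (P N : PowerSeries (ZMod (ℓ ^ (N + 1)))) =
        (∏ i ∈ O, ((M N i).charpolyRev : PowerSeries (ZMod (ℓ ^ (N + 1))))) *
          ∏ d ∈ Finset.Icc 1 m, (1 - (PowerSeries.X : PowerSeries (ZMod (ℓ ^ (N + 1)))) ^ d) ^ B d := by
      change ((_ * _ : (ZMod (ℓ ^ (N + 1)))[X]) : PowerSeries (ZMod (ℓ ^ (N + 1)))) = _
      rw [← Polynomial.coeToPowerSeries.ringHom_apply, map_mul, map_prod, map_prod]
      simp
    rw [h1]
    refine (LD.prod _ _ _ fun i _ => LD.charpolyRev _).mul (LD.prod _ _ _ fun d hd => ?_)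
    exact (LD.one_sub_X_pow d (Finset.mem_Icc.1 hd).1).pow _
  have hQld : ∀ N, LD (Q N : PowerSeries (ZMod (ℓ ^ (N + 1))))
      (∑ i ∈ E, - PowerSeries.mk fun k => ((M N i) ^ (k + 1)).trace) := by
    intro N
    have h1 : (Q N : PowerSeries (ZMod (ℓ ^ (N + 1)))) =
        (∏ i ∈ E, ((M N i).charpolyRev : PowerSeries (ZMod (ℓ ^ (N + 1))))) := by
      change ((∏ i ∈ E, _ : (ZMod (ℓ ^ (N + 1)))[X]) : PowerSeries (ZMod (ℓ ^ (N + 1)))) = _
      rw [← Polynomial.coeToPowerSeries.ringHom_apply, map_prod]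
      simp
    rw [h1]
    exact LD.prod _ _ _ fun i _ => LD.charpolyRev _
  have hcoef : ∀ N, ∀ n < m, PowerSeries.coeff n
      ((∑ i ∈ O, - PowerSeries.mk fun k => ((M N i) ^ (k + 1)).trace) +
        ∑ d ∈ Finset.Icc 1 m, (B d : PowerSeries (ZMod (ℓ ^ (N + 1)))) * gd _ d) =
      PowerSeries.coeff n (∑ i ∈ E, - PowerSeries.mk fun k => ((M N i) ^ (k + 1)).trace) := by
    intro N n hn
    rw [map_add, map_sum, map_sum, map_sum]
    simp only [map_neg, PowerSeries.coeff_mk, Finset.sum_neg_distrib]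
    have h1 : ∑ d ∈ Finset.Icc 1 m, PowerSeries.coeff n ((B d : PowerSeries (ZMod (ℓ ^ (N + 1)))) * gd _ d) =
        - ((∑ d ∈ (n + 1).divisors, d * B d : ℕ) : ZMod (ℓ ^ (N + 1))) := by
      have h2 : ∀ d, PowerSeries.coeff n ((B d : PowerSeries (ZMod (ℓ ^ (N + 1)))) * gd _ d) =
          if d ∣ n + 1 then -((d * B d : ℕ) : ZMod (ℓ ^ (N + 1))) else 0 := by
        intro d
        rw [← map_natCast (PowerSeries.C : ZMod (ℓ ^ (N + 1)) →+* _), PowerSeries.coeff_C_mul, gd, PowerSeries.coeff_mk]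
        split_ifs
        · push_cast; ring
        · rw [mul_zero]
      simp only [h2]
      rw [← Finset.sum_filter, Finset.sum_neg_distrib, Nat.cast_sum]
      congr 1
      apply Finset.sum_congr _ fun _ _ => rfl
      ext d
      rw [Finset.mem_filter, Finset.mem_Icc, Nat.mem_divisors]
      constructor
      · rintro ⟨_, h⟩; exact ⟨h, by omega⟩
      · rintro ⟨h, _⟩
        exact ⟨⟨Nat.pos_of_dvd_of_pos h (by omega), (Nat.le_of_dvd (by omega) h).trans (by omega)⟩, h⟩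
    rw [h1, ← htr N (n + 1) (by omega)]
    ring
  -- conclusion
  have hPQ : ∀ N, ((P N).map (red ℓ N)) = (∏ i ∈ O, D i) * ∏ d ∈ Finset.Icc 1 m, (1 - (X : (ZMod ℓ)[X]) ^ d) ^ B d := by
    intro N
    change (((∏ i ∈ O, (M N i).charpolyRev) * ∏ d ∈ Finset.Icc 1 m, (1 - (X : (ZMod (ℓ ^ (N + 1)))[X]) ^ d) ^ B d).map (red ℓ N)) = _
    rw [Polynomial.map_mul, Polynomial.map_prod, Polynomial.map_prod]
    congr 1
    · exact Finset.prod_congr rfl fun i hi => hD N i (Or.inr hi)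
    · exact Finset.prod_congr rfl fun d _ => by simp
  have hQQ : ∀ N, ((Q N).map (red ℓ N)) = ∏ i ∈ E, D i := by
    intro N
    change ((∏ i ∈ E, (M N i).charpolyRev).map (red ℓ N)) = _
    rw [Polynomial.map_prod]
    exact Finset.prod_congr rfl fun i hi => hD N i (Or.inl hi)
  have hmain : ∀ n < m, ∀ Q' : PowerSeries (ZMod ℓ), ((∏ i ∈ E, D i : (ZMod ℓ)[X]) : PowerSeries (ZMod ℓ)) * Q' = 1 →
      PowerSeries.coeff (n + 1) (((((∏ i ∈ O, D i) * ∏ d ∈ Finset.Icc 1 m, (1 - (X : (ZMod ℓ)[X]) ^ d) ^ B d : (ZMod ℓ)[X]) :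
        PowerSeries (ZMod ℓ))) * Q') = 0 := by
    intro n hn Q' hQ'
    let N := padicValNat ℓ (n + 1)
    obtain ⟨Q'', hQ''⟩ := isUnit_of_constantCoeff _ (hQ1 N)
    have h0 := nsmul_coeff_eq_zero (hPld N) (hQld N) hQ'' m (hcoef N) n hn
    have h1 := red_eq_zero ℓ (n + 1) (by omega) N le_rfl _ h0
    have hcoe : ∀ p : (ZMod (ℓ ^ (N + 1)))[X], PowerSeries.map (red ℓ N) (p : PowerSeries _) = ((p.map (red ℓ N) : (ZMod ℓ)[X]) : PowerSeries _) := by
      intro p
      ext k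
      simp
    have h2 : Q' = PowerSeries.map (red ℓ N) Q'' := by
      have h3 : PowerSeries.map (red ℓ N) (Q N : PowerSeries _) * PowerSeries.map (red ℓ N) Q'' = 1 := by
        rw [← map_mul, hQ'', map_one]
      rw [hcoe, hQQ] at h3
      calc Q' = Q' * (((∏ i ∈ E, D i : (ZMod ℓ)[X]) : PowerSeries (ZMod ℓ)) * PowerSeries.map (red ℓ N) Q'') := by rw [h3, mul_one]
        _ = (((∏ i ∈ E, D i : (ZMod ℓ)[X]) : PowerSeries (ZMod ℓ)) * Q') * PowerSeries.map (red ℓ N) Q'' := by ring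
        _ = _ := by rw [hQ', one_mul]
    rw [h2, ← hPQ N, ← hcoe, ← map_mul, PowerSeries.coeff_map]
    exact h1
  have hD1 : PowerSeries.constantCoeff ((∏ i ∈ E, D i : (ZMod ℓ)[X]) : PowerSeries (ZMod ℓ)) = 1 := by
    rw [← hQQ 0, Polynomial.constantCoeff_coe, Polynomial.coeff_map, ← Polynomial.constantCoeff_coe, hQ1, map_one]
  obtain ⟨Q', hQ'⟩ := isUnit_of_constantCoeff _ hD1
  set p : (ZMod ℓ)[X] := (∏ i ∈ O, D i) * ∏ d ∈ Finset.Icc 1 m, (1 - (X : (ZMod ℓ)[X]) ^ d) ^ B d with hp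
  set q : (ZMod ℓ)[X] := ∏ i ∈ E, D i with hq
  have hp1 : PowerSeries.constantCoeff (p : PowerSeries (ZMod ℓ)) = 1 := by
    rw [← hPQ 0, Polynomial.constantCoeff_coe, Polynomial.coeff_map]
    have h3 : (P 0).coeff 0 = 1 := by
      change ((∏ i ∈ O, (M 0 i).charpolyRev) * ∏ d ∈ Finset.Icc 1 m, (1 - (X : (ZMod (ℓ ^ (0 + 1)))[X]) ^ d) ^ B d).coeff 0 = 1
      rw [Polynomial.coeff_zero_eq_eval_zero, Polynomial.eval_mul, Polynomial.eval_prod, Polynomial.eval_prod,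
        Finset.prod_eq_one fun i _ => Matrix.eval_charpolyRev (M := M 0 i), one_mul]
      refine Finset.prod_eq_one fun d hd => ?_
      have : d ≠ 0 := by have := (Finset.mem_Icc.1 hd).1; omega
      simp [this]
    rw [h3, map_one]
  have hc0 : PowerSeries.constantCoeff Q' = 1 := by
    have := congrArg PowerSeries.constantCoeff hQ'
    rwa [map_mul, hD1, one_mul, map_one] at this
  have hu : ∀ n ≤ m, PowerSeries.coeff n ((p : PowerSeries (ZMod ℓ)) * Q') = PowerSeries.coeff n (1 : PowerSeries (ZMod ℓ)) := by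
    intro n hn
    rcases n with _ | n
    · simp only [PowerSeries.coeff_zero_eq_constantCoeff, map_mul, map_one]
      rw [hp1, hc0, one_mul]
    · rw [hmain n (by omega) Q' hQ', PowerSeries.coeff_one, if_neg (by omega)]
  have hfin : PowerSeries.coeff r (p : PowerSeries (ZMod ℓ)) = PowerSeries.coeff r (q : PowerSeries (ZMod ℓ)) := by
    have h1 : (p : PowerSeries (ZMod ℓ)) = ((p : PowerSeries (ZMod ℓ)) * Q') * (q : PowerSeries (ZMod ℓ)) := by
      rw [mul_assoc, mul_comm Q', hQ', mul_one]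
    have h2 : (q : PowerSeries (ZMod ℓ)) = 1 * (q : PowerSeries (ZMod ℓ)) := (one_mul _).symm
    rw [h1]
    conv_rhs => rw [h2]
    rw [PowerSeries.coeff_mul, PowerSeries.coeff_mul]
    refine Finset.sum_congr rfl fun x hx => ?_
    rw [Finset.mem_antidiagonal] at hx
    rw [hu x.1 (by omega)]
  simpa using hfin

end Groth.Agent.Sga4h.H911.ZetaTrace
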